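import Cfsg.Agent.LocalEven.KlingerMason.Elem
import Cfsg.Agent.Components.Cores
import Cfsg.Prelude.Def_Amalgam
import Cfsg.Prelude.Def_CaseTheorems
import Cfsg.Prelude.Def_LocalEven

/-!
Groups of both local characteristic `p` and characteristic 2 type: an elementary abelian `p`-group
`L` and an elementary abelian 2-group `E` that commute have bounded total rank.
-/

set_option linter.style.haveILetI false
set_option linter.unusedSectionVars false

namespace Cfsg.Lib.KlingerMason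

open Subgroup

universe u

variable {G : Type u} [Group G] [Finite G] {p m : ℕ}

theorem core_le (q : ℕ) (H : Subgroup G) : Cfsg.pCoreOf q H ≤ H := map_subtype_le _

theorem core_isPGroup (q : ℕ) (H : Subgroup G) : IsPGroup q (Cfsg.pCoreOf q H) :=
  (Cfsg.Lib.Components.isPGroup_pCore q).map _

theorem core_normalized (q : ℕ) (H : Subgroup G) :
    H ≤ normalizer (Cfsg.pCoreOf q H : Set G) := by
  refine le_normalizer_iff.2 fun h hh => ?_
  rintro _ ⟨x, hx, rfl⟩
  haveI : (Cfsg.pCore q H).Normal := (Cfsg.Lib.Components.pCore_normal_and_isPGroup q).1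
  exact ⟨⟨h, hh⟩ * x * ⟨h, hh⟩⁻¹, Normal.conj_mem inferInstance x hx ⟨h, hh⟩, rfl⟩

theorem mem_core_of_commute {q : ℕ} {H : Subgroup G}
    (h : centralizer (Cfsg.pCore q H : Set H) ≤ Cfsg.pCore q H) {x : G} (hx : x ∈ H)
    (hc : ∀ r ∈ Cfsg.pCoreOf q H, x * r = r * x) : x ∈ Cfsg.pCoreOf q H :=
  ⟨⟨x, hx⟩, h fun r hr => Subtype.ext (hc r ⟨r, hr, rfl⟩).symm, rfl⟩

/-- The setting: `m` bounds the `p`-rank of every 2-local subgroup. -/
structure Ctx (G : Type u) [Group G] (p m : ℕ) : Prop where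
  odd : p ≠ 2
  three : 3 ≤ m
  charP : Cfsg.IsOfLocalCharacteristic p G
  charTwo : Cfsg.IsCharacteristicTwoType G
  bound : ∀ T : Subgroup G, IsPGroup 2 T → T ≠ ⊥ → ∀ A : Subgroup G,
    Cfsg.IsElementaryAbelian p A → A ≤ normalizer (T : Set G) → Nat.card A ≤ p ^ m

/-- `O_p` of the normalizer of the subgroup generated by `a`. -/
abbrev Op (p : ℕ) (a : G) : Subgroup G :=
  Cfsg.pCoreOf p (normalizer (zpowers a : Set G))

theorem mem_nzp_of_commute {a x : G} (h : x * a = a * x) :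
    x ∈ normalizer (zpowers a : Set G) :=
  centralizer_le_normalizer (zpowers a : Set G)
    (mem_centralizer_iff.2 fun y hy => zpowers_commute h.symm y hy)

theorem conj_mem_Op {a x y : G} (h : x * a = a * x) (hy : y ∈ Op p a) :
    x * y * x⁻¹ ∈ Op p a :=
  (mem_normalizer_iff.1 (core_normalized p _ (mem_nzp_of_commute h)) y).1 hy

variable [Fact p.Prime]

/-- A 2-element centralizing `a` and `O_p(N(⟨a⟩))` is trivial. -/
theorem Ctx.eq_one_of_commute_Op (h : Ctx G p m) {a : G} (ha : a ^ p = 1) (ha1 : a ≠ 1) {b : G}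
    (hb : b * b = 1) (hba : b * a = a * b) (hbO : ∀ r ∈ Op p a, b * r = r * b) : b = 1 := by
  have hT : IsPGroup p (zpowers a) := el_isPGroup (el_zpowers ha)
  have hmem := mem_core_of_commute (h.charP.2 _ hT (mt zpowers_eq_bot.1 ha1))
    (mem_nzp_of_commute hba) hbO
  haveI := Fact.mk Nat.prime_two
  exact Cfsg.Lib.Coprime.eq_one_of_coprime
    (coprime_el_two h.odd (core_isPGroup p _)
      (el_isPGroup (el_zpowers (q := 2) (x := b) (by rw [sq, hb]))))
    hmem (mem_zpowers b)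

/-- A `p`-element of a 2-local subgroup `N(T)` centralizing `O_2(N(T))` is trivial. -/
theorem Ctx.eq_one_of_commute_core (h : Ctx G p m) {T : Subgroup G} (hT : IsPGroup 2 T)
    (hT1 : T ≠ ⊥) {a : G} (ha : a ^ p = 1) (haN : a ∈ normalizer (T : Set G))
    (hc : ∀ r ∈ Cfsg.pCoreOf 2 (normalizer (T : Set G)), a * r = r * a) : a = 1 :=
  Cfsg.Lib.Coprime.eq_one_of_coprime
    (coprime_el_two h.odd (el_isPGroup (el_zpowers ha)) (core_isPGroup 2 _)) (mem_zpowers a)
    (mem_core_of_commute (h.charTwo.2 T hT hT1) haN hc)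

theorem Ctx.bound_commute (h : Ctx G p m) {t : G} (ht : t * t = 1) (ht1 : t ≠ 1) {A : Subgroup G}
    (hA : Cfsg.IsElementaryAbelian p A) (hAt : ∀ a ∈ A, a * t = t * a) :
    Nat.card A ≤ p ^ m :=
  h.bound (zpowers t) (el_isPGroup (el_zpowers (by rw [sq, ht]))) (mt zpowers_eq_bot.1 ht1) A hA
    fun a ha => mem_nzp_of_commute (hAt a ha)

theorem eq_one_of_sq_of_odd (hp : p ≠ 2) {x : G} (hx : x ^ p = 1) (h2 : x * x = 1) : x = 1 := by
  have := pow_gcd_eq_one.mpr ⟨hx, (sq x).trans h2⟩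
  rwa [((Nat.coprime_primes Fact.out Nat.prime_two).2 hp).gcd_eq_one, pow_one] at this

/-- A dual family: pairwise commuting elements of order `p`, each inverted by one element of `E`
that centralizes the others. -/
structure Dual (p : ℕ) (L E : Subgroup G) (a : G) (S : Finset G) (e : G → G) : Prop where
  pow : ∀ x ∈ S, x ^ p = 1
  comm : ∀ x ∈ S, ∀ y ∈ S, x * y = y * x
  commL : ∀ x ∈ S, ∀ l ∈ L, l * x = x * l
  memOp : ∀ x ∈ S, x ∈ Op p a
  memE : ∀ x ∈ S, e x ∈ E
  inv : ∀ x ∈ S, e x * x * (e x)⁻¹ = x⁻¹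
  fix : ∀ x ∈ S, ∀ y ∈ S, y ≠ x → e x * y = y * e x
  ne : ∀ x ∈ S, x ≠ 1
  card : Nat.card E ≤ 2 ^ S.card

theorem Ctx.exists_dual (h : Ctx G p m) {L E : Subgroup G} (hL : Cfsg.IsElementaryAbelian p L)
    (hE : Cfsg.IsElementaryAbelian 2 E) (hLE : ∀ l ∈ L, ∀ x ∈ E, l * x = x * l) {a : G}
    (haL : a ∈ L) (ha1 : a ≠ 1) : ∃ S e, Dual p L E a S e := by
  classical
  haveI := hE.1
  have hE2 : ∀ b ∈ E, b * b = 1 := fun b hb => by rw [← sq]; exact el_pow hE hb
  set O := Op p a with hO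
  have hOp : IsPGroup p O := core_isPGroup p _
  set W := O ⊓ centralizer (L : Set G) with hW
  have hWp : IsPGroup p W := hOp.to_le inf_le_left
  have hEcop : (Nat.card E).Coprime (Nat.card W) :=
    (coprime_el_two h.odd hWp (el_isPGroup hE)).symm
  have hEW : E ≤ normalizer (W : Set G) := by
    refine le_normalizer_iff.2 fun x hx w hw => mem_inf.2
      ⟨conj_mem_Op (hLE a haL x hx).symm hw.1, mem_centralizer_iff.2 fun l hl => ?_⟩
    have h1 : Commute l x := hLE l hl x hx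
    exact ((h1.mul_right (mem_centralizer_iff.1 hw.2 l hl)).mul_right h1.inv_right).eq
  have hfaith : E ⊓ centralizer (W : Set G) = ⊥ := by
    refine eq_bot_iff.2 fun b hb => ?_
    obtain ⟨hbE, hbW⟩ := mem_inf.1 hb
    refine mem_bot.2 (h.eq_one_of_commute_Op (el_pow hL haL) ha1 (hE2 b hbE)
      (hLE a haL b hbE).symm fun r hr => ?_)
    refine (mem_centralizer_singleton_iff.1 ?_).symm
    refine Cfsg.Lib.Components.pxq_element (p := p) ?_ (el_isPGroup hL)
      (mem_centralizer_iff.2 fun l hl => hLE l hl b hbE) O hOp ?_ ?_ ?_ hr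
    · exact Nat.Coprime.coprime_dvd_left (orderOf_dvd_of_pow_eq_one (el_pow hE hbE))
        ((Nat.coprime_primes Nat.prime_two Fact.out).2 h.odd.symm)
    · exact le_trans (fun l hl => mem_nzp_of_commute (el_commute hL hl haL)) (core_normalized p _)
    · exact core_normalized p _ (mem_nzp_of_commute (hLE a haL b hbE).symm)
    · exact le_cen_singleton.2 fun w hw => mem_centralizer_iff.1 hbW w hw
  have hWodd : Odd (Nat.card W) := by
    obtain ⟨k, hk⟩ := IsPGroup.iff_card.1 hWp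
    rw [hk]
    exact ((Fact.out : p.Prime).odd_of_ne_two h.odd).pow
  obtain ⟨S0, hS0, hS0c, hS0b⟩ := Cfsg.Lib.Misc.DihedralLemma.exists_commuting E hE2 _ W le_rfl
    hWp.isNilpotent hWodd hEcop hEW hfaith
  set P : Set G := {x | x ^ p = 1 ∧ x ≠ 1 ∧ x ∈ Cfsg.Lib.Misc.DihedralLemma.Eig E W ∧
    ∃ y ∈ S0, x ∈ zpowers y} with hP
  have hPc : ∀ x ∈ P, ∀ y ∈ P, x * y = y * x := by
    rintro x ⟨-, -, -, u, hu, hxu⟩ y ⟨-, -, -, v, hv, hyv⟩
    exact zpowers_commute (zpowers_commute (hS0c v hv u hu) y hyv).symm x hxu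
  have hPb : ∀ b ∈ E, (∀ x ∈ P, b * x = x * b) → b = 1 := by
    intro b hb hbP
    have : b ∈ E ⊓ centralizer S0 := by
      refine mem_inf.2 ⟨hb, fun y hy => ?_⟩
      obtain ⟨hyW, hyE⟩ := hS0 hy
      by_cases hy1 : y = 1
      · rw [hy1, one_mul, mul_one]
      rcases hyE b hb with h1 | h1
      · exact (mul_inv_eq_iff_eq_mul.1 h1).symm
      exfalso
      obtain ⟨k, hk⟩ := IsPGroup.iff_orderOf.1 hWp ⟨y, hyW⟩
      rw [orderOf_mk] at hk
      have hk0 : k ≠ 0 := fun e => hy1 (orderOf_eq_one_iff.1 (by rw [hk, e, pow_zero]))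
      obtain ⟨j, rfl⟩ := Nat.exists_eq_succ_of_ne_zero hk0
      have hxp : (y ^ p ^ j) ^ p = 1 := by rw [← pow_mul, ← pow_succ, ← hk, pow_orderOf_eq_one]
      have hx1 : y ^ p ^ j ≠ 1 := pow_ne_one_of_lt_orderOf
        (pow_ne_zero _ (Fact.out : p.Prime).ne_zero)
        (hk ▸ Nat.pow_lt_pow_right (Fact.out : p.Prime).one_lt (Nat.lt_succ_self j))
      have hxP : y ^ p ^ j ∈ P := by
        refine ⟨hxp, hx1, ⟨pow_mem hyW _, fun c hc => ?_⟩, y, hy, pow_mem (mem_zpowers y) _⟩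
        rw [← conj_pow]
        rcases hyE c hc with h2 | h2 <;> rw [h2]
        · exact Or.inl rfl
        · exact Or.inr (inv_pow y _)
      have h3 : b * y ^ p ^ j * b⁻¹ = y ^ p ^ j := mul_inv_eq_iff_eq_mul.2 (hbP _ hxP)
      rw [← conj_pow, h1, inv_pow] at h3
      refine hx1 (eq_one_of_sq_of_odd h.odd hxp ?_)
      nth_rewrite 1 [← h3]
      rw [inv_mul_cancel]
    rwa [hS0b, mem_bot] at this
  haveI : Fintype G := Fintype.ofFinite G
  obtain ⟨S, hS, hSmin⟩ := ((Finset.univ : Finset (Finset G)).filter fun T =>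
      (∀ x ∈ T, x ∈ P) ∧ ∀ b ∈ E, (∀ x ∈ T, b * x = x * b) → b = 1).exists_min_image Finset.card
    ⟨P.toFinset, Finset.mem_filter.2 ⟨Finset.mem_univ _, fun x hx => Set.mem_toFinset.1 hx,
      fun b hb hc => hPb b hb fun x hx => hc x (Set.mem_toFinset.2 hx)⟩⟩
  obtain ⟨-, hSP, hSb⟩ := Finset.mem_filter.1 hS
  have hex : ∀ x ∈ S, ∃ b ∈ E, (∀ y ∈ S, y ≠ x → b * y = y * b) ∧ b * x * b⁻¹ = x⁻¹ := by
    intro x hx
    by_contra hcon
    push Not at hcon
    refine absurd (hSmin (S.erase x) (Finset.mem_filter.2 ⟨Finset.mem_univ _,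
      fun y hy => hSP y (Finset.mem_of_mem_erase hy), fun b hb hc => ?_⟩))
      (not_le.2 (Finset.card_erase_lt_of_mem hx))
    refine hSb b hb fun y hy => ?_
    by_cases hyx : y = x
    · subst hyx
      rcases (hSP y hy).2.2.1.2 b hb with h1 | h1
      · exact mul_inv_eq_iff_eq_mul.1 h1
      · exact absurd h1 (hcon b hb fun z hz hne => hc z (Finset.mem_erase.2 ⟨hne, hz⟩))
    · exact hc y (Finset.mem_erase.2 ⟨hyx, hy⟩)
  choose! e he hfix hinv using hex
  refine ⟨S, e, fun x hx => (hSP x hx).1, fun x hx y hy => hPc x (hSP x hx) y (hSP y hy),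
    fun x hx l hl => mem_centralizer_iff.1 (hSP x hx).2.2.1.1.2 l hl,
    fun x hx => (hSP x hx).2.2.1.1.1, he, hinv, hfix, fun x hx => (hSP x hx).2.1, ?_⟩
  have hinj : Function.Injective
      fun (b : E) (x : S) => decide ((b : G) * x.1 * (b : G)⁻¹ = x.1) := by
    intro b c hbc
    have hc1 : (b : G) * c = 1 := hSb _ (mul_mem b.2 c.2) fun x hx => by
      rw [← mul_inv_eq_iff_eq_mul,
        show (b : G) * c * x * ((b : G) * c)⁻¹ = b * (c * x * (c : G)⁻¹) * (b : G)⁻¹ by group]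
      have hx2 : (b : G) * x * (b : G)⁻¹ = x ↔ (c : G) * x * (c : G)⁻¹ = x := by
        simpa using congrFun hbc ⟨x, hx⟩
      rcases (hSP x hx).2.2.1.2 c c.2 with h1 | h1
      · rw [h1, hx2.2 h1]
      · rw [h1, show (b : G) * x⁻¹ * (b : G)⁻¹ = ((b : G) * x * (b : G)⁻¹)⁻¹ by group]
        by_cases h4 : (c : G) * x * (c : G)⁻¹ = x
        · rw [hx2.2 h4, ← h1, h4]
        · rw [((hSP x hx).2.2.1.2 b b.2).resolve_left fun e => h4 (hx2.1 e), inv_inv]
    exact Subtype.ext ((eq_inv_of_mul_eq_one_left hc1).trans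
      (inv_eq_of_mul_eq_one_left (hE2 c c.2)))
  refine (Nat.card_le_card_of_injective _ hinj).trans_eq ?_
  rw [Nat.card_fun, Nat.card_eq_fintype_card (α := Bool), Fintype.card_bool,
    Nat.card_eq_fintype_card, Fintype.card_coe]

/-- Joining a commuting family to `L`. -/
theorem Dual.el_join (hp : p ≠ 2) {L E : Subgroup G} {a : G} {S : Finset G} {e : G → G}
    (d : Dual p L E a S e) (hL : Cfsg.IsElementaryAbelian p L)
    (hLE : ∀ l ∈ L, ∀ x ∈ E, l * x = x * l) :
    ∀ T : Finset G, T ⊆ S →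
      Cfsg.IsElementaryAbelian p (L ⊔ closure (T : Set G)) ∧
      (∀ x ∈ S, ∀ z ∈ L ⊔ closure (T : Set G), z * x = x * z) ∧
      (∀ x ∈ S, x ∉ T → ∀ z ∈ L ⊔ closure (T : Set G), e x * z = z * e x) ∧
      Nat.card L * p ^ T.card ≤ Nat.card ↥(L ⊔ closure (T : Set G)) := by
  classical
  have hc1 : ∀ T : Finset G, T ⊆ S → ∀ x ∈ S, ∀ z ∈ L ⊔ closure (T : Set G), z * x = x * z := by
    intro T hT x hx
    refine le_cen_singleton.1 (sup_le (le_cen_singleton.2 fun l hl => d.commL x hx l hl)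
      ((closure_le _).2 fun y hy => mem_centralizer_singleton_iff.2 ?_))
    exact d.comm y (hT hy) x hx
  have hc2 : ∀ T : Finset G, T ⊆ S → ∀ x ∈ S, x ∉ T →
      ∀ z ∈ L ⊔ closure (T : Set G), e x * z = z * e x := by
    intro T hT x hx hxT z hz
    refine (le_cen_singleton.1 (sup_le (le_cen_singleton.2 fun l hl => hLE l hl _ (d.memE x hx))
      ((closure_le _).2 fun y hy => mem_centralizer_singleton_iff.2 ?_)) z hz).symm
    exact (d.fix x hx y (hT hy) fun e => hxT (e ▸ hy)).symm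
  intro T hT
  refine ⟨?_, hc1 T hT, hc2 T hT, ?_⟩
  · induction T using Finset.induction_on with
    | empty => simpa using hL
    | insert y T hy ih =>
      have hyS := hT (Finset.mem_insert_self y T)
      have hT' : T ⊆ S := fun z hz => hT (Finset.mem_insert_of_mem hz)
      rw [Finset.coe_insert, Set.insert_eq, Subgroup.closure_union, ← zpowers_eq_closure,
        sup_comm (zpowers y), ← sup_assoc]
      exact el_sup_zpowers (ih hT') (d.pow y hyS) (hc1 T hT' y hyS)
  · induction T using Finset.induction_on with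
    | empty => simp
    | insert y T hy ih =>
      have hyS := hT (Finset.mem_insert_self y T)
      have hT' : T ⊆ S := fun z hz => hT (Finset.mem_insert_of_mem hz)
      rw [Finset.coe_insert, Set.insert_eq, Subgroup.closure_union, ← zpowers_eq_closure,
        sup_comm (zpowers y), ← sup_assoc]
      have hny : y ∉ L ⊔ closure (T : Set G) := fun hmem => by
        have h1 := mul_inv_eq_iff_eq_mul.2 (hc2 T hT' y hyS hy y hmem)
        rw [d.inv y hyS] at h1
        exact d.ne y hyS (eq_one_of_sq_of_odd hp (d.pow y hyS)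
          (by nth_rewrite 1 [← h1]; rw [inv_mul_cancel]))
      have hn : y ∈ normalizer ((L ⊔ closure (T : Set G) : Subgroup G) : Set G) :=
        centralizer_le_normalizer _ (mem_centralizer_iff.2 fun z hz => hc1 T hT' y hyS z hz)
      rw [Finset.card_insert_of_notMem hy, pow_succ, ← mul_assoc,
        card_sup_zpowers (d.pow y hyS) hny hn]
      exact Nat.mul_le_mul_right p (ih hT')

/-- The rank bound. -/
theorem Ctx.rank_bound (h : Ctx G p m) {L E : Subgroup G} (hL : Cfsg.IsElementaryAbelian p L)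
    (hE : Cfsg.IsElementaryAbelian 2 E) (hLE : ∀ l ∈ L, ∀ x ∈ E, l * x = x * l) {l k : ℕ}
    (hl : 1 ≤ l) (hk : 1 ≤ k) (hLc : p ^ l ≤ Nat.card L) (hEc : 2 ^ k ≤ Nat.card E) :
    l + k ≤ m + 1 := by
  classical
  have hp1 := (Fact.out : p.Prime).one_lt
  have hL1 : L ≠ ⊥ := fun e => by
    rw [e, card_bot] at hLc
    exact absurd hLc (not_le.2 (Nat.one_lt_pow (by omega) hp1))
  obtain ⟨⟨a, haL⟩, ha⟩ := L.ne_bot_iff_exists_ne_one.1 hL1
  have ha1 : a ≠ 1 := fun e => ha (Subtype.ext e)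
  obtain ⟨S, e, d⟩ := h.exists_dual hL hE hLE haL ha1
  have hkS : k ≤ S.card := (Nat.pow_le_pow_iff_right (by norm_num)).1 (hEc.trans d.card)
  obtain ⟨x0, hx0⟩ : S.Nonempty := Finset.card_pos.1 (by omega)
  obtain ⟨hel, -, hfix, hcard⟩ := d.el_join h.odd hL hLE (S.erase x0) (Finset.erase_subset _ _)
  have he1 : e x0 ≠ 1 := fun e1 => by
    have h1 := d.inv x0 hx0
    rw [e1, one_mul, inv_one, mul_one] at h1
    exact d.ne x0 hx0 (eq_one_of_sq_of_odd h.odd (d.pow x0 hx0)
      (by nth_rewrite 1 [h1]; rw [inv_mul_cancel]))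
  have hb := h.bound_commute (by rw [← sq]; exact el_pow hE (d.memE x0 hx0)) he1 hel
    fun z hz => (hfix x0 hx0 (Finset.notMem_erase x0 S) z hz).symm
  rw [Finset.card_erase_of_mem hx0] at hcard
  have hfin : p ^ (l + (S.card - 1)) ≤ p ^ m := by
    rw [pow_add]
    exact ((Nat.mul_le_mul_right _ hLc).trans hcard).trans hb
  have := (Nat.pow_le_pow_iff_right hp1).1 hfin
  omega

end Cfsg.Lib.KlingerMason
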