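import Cfsg.Agent.Components.Misc.DihedralLemma
import Cfsg.Agent.Components.PxQ
import Cfsg.Agent.Coprime.CommutatorFixedGeneration
import Cfsg.Prelude.Def_Transfer

/-!
Small facts on elementary abelian subgroups of a finite group.
-/

set_option linter.style.haveILetI false
set_option linter.unusedSectionVars false

namespace Cfsg.Lib.KlingerMason

open Subgroup

universe u

variable {G : Type u} [Group G] [Finite G] {q : ℕ}

theorem el_commute {A : Subgroup G} (hA : Cfsg.IsElementaryAbelian q A) {a b : G} (ha : a ∈ A)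
    (hb : b ∈ A) : a * b = b * a := by
  haveI := hA.1
  exact congrArg Subtype.val (mul_comm' (⟨a, ha⟩ : A) ⟨b, hb⟩)

theorem el_pow {A : Subgroup G} (hA : Cfsg.IsElementaryAbelian q A) {a : G} (ha : a ∈ A) :
    a ^ q = 1 := hA.2 a ha

theorem el_mk {A : Subgroup G} (hc : ∀ a ∈ A, ∀ b ∈ A, a * b = b * a)
    (hp : ∀ a ∈ A, a ^ q = 1) : Cfsg.IsElementaryAbelian q A :=
  ⟨⟨⟨fun a b => Subtype.ext (hc a a.2 b b.2)⟩⟩, hp⟩

theorem el_mono {A B : Subgroup G} (hA : Cfsg.IsElementaryAbelian q A) (h : B ≤ A) :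
    Cfsg.IsElementaryAbelian q B :=
  el_mk (fun _ ha _ hb => el_commute hA (h ha) (h hb)) fun _ ha => el_pow hA (h ha)

theorem el_isPGroup {A : Subgroup G} (hA : Cfsg.IsElementaryAbelian q A) : IsPGroup q A :=
  fun a => ⟨1, Subtype.ext (by simpa using el_pow hA a.2)⟩

theorem el_bot : Cfsg.IsElementaryAbelian q (⊥ : Subgroup G) :=
  el_mk (fun a ha b _ => by rw [mem_bot.1 ha, one_mul, mul_one])
    fun a ha => by rw [mem_bot.1 ha, one_pow]

theorem le_cen_singleton {A : Subgroup G} {x : G} :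
    A ≤ centralizer ({x} : Set G) ↔ ∀ a ∈ A, a * x = x * a :=
  ⟨fun h _ ha => mem_centralizer_singleton_iff.1 (h ha),
    fun h a ha => mem_centralizer_singleton_iff.2 (h a ha)⟩

theorem zpowers_commute {x b : G} (h : x * b = b * x) : ∀ y ∈ zpowers x, y * b = b * y := by
  intro y hy
  obtain ⟨k, rfl⟩ := mem_zpowers_iff.1 hy
  exact (Commute.zpow_left h k).eq

theorem el_zpowers {x : G} (hx : x ^ q = 1) : Cfsg.IsElementaryAbelian q (zpowers x) := by
  refine el_mk (fun a ha b hb => ?_) fun a ha => ?_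
  · exact zpowers_commute (zpowers_commute rfl b hb).symm a ha
  · obtain ⟨k, rfl⟩ := mem_zpowers_iff.1 ha
    rw [← zpow_natCast, ← zpow_mul, mul_comm, zpow_mul, zpow_natCast, hx, one_zpow]

theorem el_sup {A B : Subgroup G} (hA : Cfsg.IsElementaryAbelian q A)
    (hB : Cfsg.IsElementaryAbelian q B) (h : ∀ a ∈ A, ∀ b ∈ B, a * b = b * a) :
    Cfsg.IsElementaryAbelian q (A ⊔ B) := by
  have hn : B ≤ normalizer (A : Set G) :=
    le_trans (fun b hb => mem_centralizer_iff.2 fun a ha => h a ha b hb)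
      (centralizer_le_normalizer (A : Set G))
  refine el_mk (fun x hx y hy => ?_) fun x hx => ?_
  · obtain ⟨a, ha, b, hb, rfl⟩ := (Cfsg.Lib.Coprime.mem_sup_of_le_normalizer hn).1 hx
    obtain ⟨c, hc, d, hd, rfl⟩ := (Cfsg.Lib.Coprime.mem_sup_of_le_normalizer hn).1 hy
    have h1 : Commute a c := el_commute hA ha hc
    have h2 : Commute a d := h a ha d hd
    have h3 : Commute b c := (h c hc b hb).symm
    have h4 : Commute b d := el_commute hB hb hd
    exact ((h1.mul_right h2).mul_left (h3.mul_right h4)).eq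
  · obtain ⟨a, ha, b, hb, rfl⟩ := (Cfsg.Lib.Coprime.mem_sup_of_le_normalizer hn).1 hx
    rw [(show Commute a b from h a ha b hb).mul_pow, el_pow hA ha, el_pow hB hb, one_mul]

theorem el_sup_zpowers {A : Subgroup G} (hA : Cfsg.IsElementaryAbelian q A) {x : G}
    (hx : x ^ q = 1) (h : ∀ a ∈ A, a * x = x * a) :
    Cfsg.IsElementaryAbelian q (A ⊔ zpowers x) :=
  el_sup hA (el_zpowers hx) fun a ha b hb => (zpowers_commute (h a ha).symm b hb).symm

theorem inf_zpowers_eq_bot [hq : Fact q.Prime] {A : Subgroup G} {x : G} (hx : x ^ q = 1)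
    (hxA : x ∉ A) : A ⊓ zpowers x = ⊥ := by
  have hord : orderOf x = q :=
    orderOf_eq_prime hx fun h => hxA (h ▸ one_mem A)
  haveI : Fact (Nat.card (zpowers x)).Prime := by rw [Nat.card_zpowers, hord]; exact hq
  rcases eq_bot_or_eq_top_of_prime_card ((A ⊓ zpowers x).subgroupOf (zpowers x)) with h | h
  · rw [subgroupOf_eq_bot, disjoint_iff, inf_assoc, inf_idem] at h
    exact h
  · exact absurd ((subgroupOf_eq_top.1 h) (mem_zpowers x)).1 hxA

theorem card_sup_zpowers [Fact q.Prime] {A : Subgroup G} {x : G} (hx : x ^ q = 1) (hxA : x ∉ A)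
    (hn : x ∈ normalizer (A : Set G)) :
    Nat.card ↥(A ⊔ zpowers x) = Nat.card A * q := by
  rw [Cfsg.Lib.Coprime.card_sup_of_inf_eq_bot (zpowers_le.2 hn) (inf_zpowers_eq_bot hx hxA),
    Nat.card_zpowers, orderOf_eq_prime hx fun h => hxA (h ▸ one_mem A)]

theorem el_le_normalizer {A B : Subgroup G} (hA : Cfsg.IsElementaryAbelian q A) (hB : B ≤ A) :
    A ≤ normalizer (B : Set G) :=
  le_trans (fun a ha => mem_centralizer_iff.2 fun b hb => el_commute hA (hB hb) ha)
    (centralizer_le_normalizer (B : Set G))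

/-- A subgroup of index `q` of an elementary abelian group and any element outside it generate. -/
theorem hyperplane_sup [Fact q.Prime] {A B : Subgroup G} (hA : Cfsg.IsElementaryAbelian q A)
    (hBA : B ≤ A) (hcard : Nat.card A = Nat.card B * q) {x : G} (hxA : x ∈ A) (hxB : x ∉ B) :
    B ⊔ zpowers x = A :=
  Cfsg.Lib.Coprime.eq_of_le_of_card_eq (sup_le hBA (zpowers_le.2 hxA))
    (by rw [card_sup_zpowers (el_pow hA hxA) hxB (el_le_normalizer hA hBA hxA), hcard])

theorem le_cen_of_hyperplane [Fact q.Prime] {A B : Subgroup G}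
    (hA : Cfsg.IsElementaryAbelian q A) (hBA : B ≤ A) (hcard : Nat.card A = Nat.card B * q)
    {x z : G} (hxA : x ∈ A) (hxB : x ∉ B) (hBz : ∀ b ∈ B, b * z = z * b) (hxz : x * z = z * x) :
    ∀ a ∈ A, a * z = z * a := by
  have h : A ≤ centralizer ({z} : Set G) := by
    rw [← hyperplane_sup hA hBA hcard hxA hxB]
    exact sup_le (le_cen_singleton.2 hBz) (zpowers_le.2 (mem_centralizer_singleton_iff.2 hxz))
  exact le_cen_singleton.1 h

theorem el_card_pow [Fact q.Prime] {A : Subgroup G} (hA : Cfsg.IsElementaryAbelian q A) :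
    ∃ l, Nat.card A = q ^ l := IsPGroup.iff_card.1 (el_isPGroup hA)

theorem coprime_el_two {p : ℕ} [Fact p.Prime] (hp : p ≠ 2) {A R : Subgroup G}
    (hA : IsPGroup p A) (hR : IsPGroup 2 R) : (Nat.card A).Coprime (Nat.card R) := by
  haveI := Fact.mk Nat.prime_two
  obtain ⟨l, hl⟩ := IsPGroup.iff_card.1 hA
  obtain ⟨k, hk⟩ := IsPGroup.iff_card.1 hR
  rw [hl, hk]
  exact Nat.Coprime.pow l k ((Nat.coprime_primes Fact.out Nat.prime_two).2 hp)

/-- Generation by the fixed points of subgroups with cyclic quotient. -/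
theorem exists_moving_hyperplane [Fact q.Prime] {A R L : Subgroup G}
    (hA : Cfsg.IsElementaryAbelian q A) (hcop : (Nat.card A).Coprime (Nat.card R))
    (hAR : A ≤ normalizer (R : Set G)) (hLA : L ≤ A) (hLR : ∀ l ∈ L, ∀ r ∈ R, l * r = r * l)
    {x : G} (hxA : x ∈ A) (hx : ∃ r ∈ R, x * r ≠ r * x) :
    ∃ C : Subgroup G, C ≤ A ∧ L ≤ C ∧ Nat.card A = Nat.card C * q ∧ x ∉ C ∧
      ∃ r ∈ R, (∀ c ∈ C, c * r = r * c) ∧ x * r ≠ r * x := by
  haveI := hA.1
  obtain ⟨r0, hr0, hx0⟩ := hx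
  have hgen := Cfsg.Lib.Coprime.le_join_cyclicQuot (A := A) (Nat.card A) ⊥ R (Nat.sub_le _ _)
    bot_le hAR hcop bot_le
  by_contra hcon
  push Not at hcon
  apply hx0
  refine (mem_centralizer_singleton_iff.1 (?_ : r0 ∈ centralizer ({x} : Set G))).symm
  refine (hgen.trans (iSup₂_le ?_)) hr0
  rintro C ⟨hCA, a, ha, hgenA⟩ r hr
  obtain ⟨hrR, hrC⟩ := mem_inf.1 hr
  refine mem_centralizer_singleton_iff.2 (Eq.symm ?_)
  set C' := C ⊔ L
  have hC' : ∀ c ∈ C', c * r = r * c := by
    refine le_cen_singleton.1 (sup_le (le_cen_singleton.2 fun c hc => ?_)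
      (le_cen_singleton.2 fun l hl => hLR l hl r hrR))
    exact mem_centralizer_iff.1 hrC c hc
  by_cases hxC : x ∈ C'
  · exact hC' x hxC
  have hC'A : C' ≤ A := sup_le hCA hLA
  have haC : a ∉ C' := fun h =>
    hxC ((sup_le le_sup_left (zpowers_le.2 h) : C ⊔ zpowers a ≤ C') (hgenA.symm ▸ hxA))
  have hAeq : A = C' ⊔ zpowers a :=
    le_antisymm (hgenA ▸ sup_le_sup_right le_sup_left _) (sup_le hC'A (zpowers_le.2 ha))
  have hcard : Nat.card A = Nat.card C' * q := by
    rw [hAeq]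
    exact card_sup_zpowers (el_pow hA ha) haC (el_le_normalizer hA hC'A ha)
  exact hcon C' hC'A le_sup_right hcard hxC r hrR hC'

/-- A subgroup of index `q` meets every subgroup in index at most `q`. -/
theorem card_le_card_inf_mul [Fact q.Prime] {A B C : Subgroup G} (hBA : B ≤ A) (hCA : C ≤ A)
    (hcard : Nat.card A = Nat.card B * q) : Nat.card C ≤ Nat.card ↥(B ⊓ C) * q := by
  have h1 : B.relIndex A = q := by
    have h2 := Subgroup.card_mul_index (B.subgroupOf A)
    rw [Nat.card_congr (subgroupOfEquivOfLe hBA).toEquiv, hcard] at h2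
    exact Nat.eq_of_mul_eq_mul_left Nat.card_pos h2
  have h3 := Subgroup.card_mul_index ((B ⊓ C).subgroupOf C)
  rw [Nat.card_congr (subgroupOfEquivOfLe inf_le_right).toEquiv,
    show ((B ⊓ C).subgroupOf C).index = B.relIndex C from inf_relIndex_right B C] at h3
  have h4 : B.relIndex C ≤ q :=
    h1 ▸ relIndex_le_of_le_right hCA (h1 ▸ (Fact.out : q.Prime).ne_zero)
  calc Nat.card C = Nat.card ↥(B ⊓ C) * B.relIndex C := h3.symm
    _ ≤ _ := Nat.mul_le_mul_left _ h4

/-- An element of order at most 2 generates a subgroup with at most two elements. -/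
theorem mem_zpowers_two {t x : G} (ht : t * t = 1) (hx : x ∈ zpowers t) : x = 1 ∨ x = t := by
  obtain ⟨k, rfl⟩ := mem_zpowers_iff.1 hx
  rcases Int.even_or_odd k with ⟨j, rfl⟩ | ⟨j, rfl⟩
  · left
    rw [← two_mul, zpow_mul, zpow_two, ht, one_zpow]
  · right
    rw [zpow_add_one, zpow_mul, zpow_two, ht, one_zpow, one_mul]

end Cfsg.Lib.KlingerMason
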