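import Cfsg.Agent.LocalEven.KlingerMason.PingPong
import Cfsg.Prelude.Def_Local

/-!
A group of local characteristic `p` and characteristic 2 type has 2-local `p`-rank at most 2.
-/

set_option linter.style.haveILetI false
set_option linter.unusedSectionVars false

namespace Cfsg.Lib.KlingerMason

open Subgroup

universe u

variable {G : Type u} [Group G] [Finite G] {p m : ℕ} [Fact p.Prime]

/-- An elementary abelian `p`-group of largest rank in a 2-local centralizes an involution. -/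
theorem Ctx.exists_top (h : Ctx G p m) {T A : Subgroup G} (hT : IsPGroup 2 T) (hT1 : T ≠ ⊥)
    (hA : Cfsg.IsElementaryAbelian p A) (hAT : A ≤ normalizer (T : Set G))
    (hcard : Nat.card A = p ^ m) : ∃ t, Top p m A t := by
  haveI := Fact.mk Nat.prime_two
  have hm := h.three
  set Q := Cfsg.pCoreOf 2 (normalizer (T : Set G))
  have hQ2 : IsPGroup 2 Q := core_isPGroup 2 _
  have hAQ : A ≤ normalizer (Q : Set G) := hAT.trans (core_normalized 2 _)
  obtain ⟨⟨a, haA⟩, ha⟩ : ∃ a : A, a ≠ 1 := A.ne_bot_iff_exists_ne_one.1 fun e => by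
    rw [e, card_bot] at hcard
    exact absurd hcard.ge (not_le.2 (Nat.one_lt_pow (by omega) (Fact.out : p.Prime).one_lt))
  have ha1 : a ≠ 1 := fun e => ha (Subtype.ext e)
  have hmove : ∃ r ∈ Q, a * r ≠ r * a := by
    by_contra hc
    push Not at hc
    exact ha1 (h.eq_one_of_commute_core hT hT1 (el_pow hA haA) (hAT haA) hc)
  obtain ⟨B, hBA, -, hB, -, r, hr, hBr, har⟩ := exists_moving_hyperplane (L := (⊥ : Subgroup G))
    hA (coprime_el_two h.odd (el_isPGroup hA) hQ2) hAQ bot_le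
    (fun l hl r _ => by rw [mem_bot.1 hl, one_mul, mul_one]) haA hmove
  set Y := Q ⊓ centralizer (B : Set G) with hY
  have hAY : A ≤ normalizer (Y : Set G) :=
    inf_centralizer_normalized hAQ fun a ha' z hz => el_commute hA ha' (hBA hz)
  haveI : Nontrivial Y := by
    refine ⟨⟨⟨r, hr, mem_centralizer_iff.2 fun z hz => hBr z hz⟩, 1, fun e => har ?_⟩⟩
    have : r = 1 := congrArg Subtype.val e
    rw [this, one_mul, mul_one]
  have hY2 : IsPGroup 2 Y := hQ2.to_le inf_le_left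
  haveI := hY2.center_nontrivial
  obtain ⟨z, hz⟩ := exists_prime_orderOf_dvd_card' (G := center Y) 2 (by
    obtain ⟨n, hn⟩ := IsPGroup.iff_card.1 (hY2.to_subgroup (center Y))
    rcases n with _ | n
    · exact absurd hn (Nat.ne_of_gt Finite.one_lt_card)
    · exact hn ▸ dvd_pow_self 2 n.succ_ne_zero)
  set t : G := ((z : Y) : G) with htdef
  have ht : t * t = 1 := by
    rw [← sq]
    have := congrArg (fun w : center Y => ((w : Y) : G)) (hz ▸ pow_orderOf_eq_one z : z ^ 2 = 1)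
    simpa using this
  have ht1 : t ≠ 1 := fun e => by
    have : z = 1 := Subtype.ext (Subtype.ext e)
    rw [this, orderOf_one] at hz
    exact absurd hz (by norm_num)
  have htY : t ∈ Y := (z : Y).2
  refine ⟨t, hA, hcard, ht, ht1, fun b hb => ?_⟩
  set x := b * t * b⁻¹ with hx
  have hxY : x ∈ Y := (mem_normalizer_iff.1 (hAY hb) t).1 htY
  have hx2 : x * x = 1 := by
    rw [hx, show b * t * b⁻¹ * (b * t * b⁻¹) = b * (t * t) * b⁻¹ by group, ht]; group
  have hxt : x * t = t * x := congrArg Subtype.val (mem_center_iff.1 z.2 ⟨x, hxY⟩)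
  rcases mem_zpowers_two ht (h.rank_one (el_mono hA hBA) (card_hyperplane hcard (by omega) hB).ge
    ht ht1 hx2 hxt (fun c hc => mem_centralizer_iff.1 htY.2 c hc)
    (fun c hc => mem_centralizer_iff.1 hxY.2 c hc)) with h1 | h1
  · exact absurd (conj_eq_one_iff.1 h1) ht1
  · exact mul_inv_eq_iff_eq_mul.1 h1

/-- No elementary abelian `p`-group of rank at least 3 centralizes an involution as a top group. -/
theorem Ctx.top_false (h : Ctx G p m) {A : Subgroup G} {t : G} (T : Top p m A t) : False := by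
  haveI := Fact.mk Nat.prime_two
  have hm := h.three
  have hp1 := (Fact.out : p.Prime).one_lt
  set Q := Qt t with hQ
  have hQ2 : IsPGroup 2 Q := core_isPGroup 2 _
  have htwo : IsPGroup 2 (zpowers t) := el_isPGroup (el_zpowers (by rw [sq, T.sq]))
  have hfaith : ∀ a ∈ A, (∀ q ∈ Q, a * q = q * a) → a = 1 := fun a ha hc =>
    h.eq_one_of_commute_core htwo (mt zpowers_eq_bot.1 T.ne) (el_pow T.el ha)
      (mem_nzp_of_commute (T.commute a ha)) hc
  have hAQ : A ≤ normalizer (Q : Set G) := fun a ha =>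
    core_normalized 2 _ (mem_nzp_of_commute (T.commute a ha))
  have hnt : ∀ {R : Subgroup G}, 1 < Nat.card R → ∃ a ∈ R, a ≠ 1 := fun {R} hR => by
    obtain ⟨⟨a, haR⟩, ha⟩ := R.ne_bot_iff_exists_ne_one.1 fun e => by
      rw [e, card_bot] at hR; exact absurd hR (lt_irrefl 1)
    exact ⟨a, haR, fun e => ha (Subtype.ext e)⟩
  obtain ⟨a, haA, ha1⟩ := hnt (R := A) (by rw [T.card]; exact Nat.one_lt_pow (by omega) hp1)
  have hmove : ∃ r ∈ Q, a * r ≠ r * a := by
    by_contra hc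
    push Not at hc
    exact ha1 (hfaith a haA hc)
  obtain ⟨B, hBA, -, hB, haB, r, hr, hBr, har⟩ := exists_moving_hyperplane
    (L := (⊥ : Subgroup G)) T.el (coprime_el_two h.odd (el_isPGroup T.el) hQ2) hAQ bot_le
    (fun l hl r _ => by rw [mem_bot.1 hl, one_mul, mul_one]) haA hmove
  have hBc : Nat.card B = p ^ (m - 1) := card_hyperplane T.card (by omega) hB
  set W := Q ⊓ centralizer (B : Set G)
  obtain ⟨U, hUW, hAU, ⟨k, hk, hak⟩, hUext, -⟩ := h.exists_ext T (hQ2.to_le inf_le_left)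
    (W := W) (fun w hw => commute_of_mem_Qt T.sq T.ne hw.1) le_rfl
    (inf_centralizer_normalized hAQ fun a ha' z hz => el_commute T.el ha' (hBA hz)) haA
    (el_le_normalizer T.el (zpowers_le.2 haA)) hBA
    (fun l hl w hw => mem_centralizer_iff.1 hw.2 l hl) (by
      rw [hyperplane_sup T.el hBA hB haA haB, T.card]
      exact Nat.pow_le_pow_right hp1.le (Nat.sub_le m 1))
    ⟨r, ⟨hr, mem_centralizer_iff.2 fun z hz => hBr z hz⟩, har⟩
  obtain ⟨u, hu, w, hw, hu2, hw2, huw⟩ := h.exists_pair T hAU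
    (fun v hv => commute_of_mem_Qt T.sq T.ne (hUW hv).1) hUext hBA hBc.ge
    (fun z hz v hv => mem_centralizer_iff.1 (hUW hv).2 z hz) ⟨a, haA, k, hk, hak⟩
  set D := Q ⊓ centralizer (U : Set G) with hD
  have hAD : A ≤ normalizer (D : Set G) := by
    refine le_normalizer_iff.2 fun g hg d hd => mem_inf.2
      ⟨(mem_normalizer_iff.1 (hAQ hg) d).1 hd.1, mem_centralizer_iff.2 fun v hv => ?_⟩
    have h1 : g⁻¹ * v * g⁻¹⁻¹ ∈ U :=
      (mem_normalizer_iff.1 (hAU (A.inv_mem hg)) v).1 hv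
    have h2 := mem_centralizer_iff.1 hd.2 _ h1
    calc v * (g * d * g⁻¹) = g * ((g⁻¹ * v * g⁻¹⁻¹) * d) * g⁻¹ := by group
      _ = g * (d * (g⁻¹ * v * g⁻¹⁻¹)) * g⁻¹ := by rw [h2]
      _ = g * d * g⁻¹ * v := by group
  obtain ⟨b, hbB, hb1⟩ := hnt (R := B) (by rw [hBc]; exact Nat.one_lt_pow (by omega) hp1)
  have hbU : b ∈ centralizer (U : Set G) := mem_centralizer_iff.2 fun v hv =>
    (mem_centralizer_iff.1 (hUW hv).2 b hbB).symm
  have hmoveD : ∃ d ∈ D, b * d ≠ d * b := by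
    by_contra hc
    push Not at hc
    refine hb1 (hfaith b (hBA hbB) fun q hq => ?_)
    refine (mem_centralizer_singleton_iff.1 ?_).symm
    refine Cfsg.Lib.Components.pxq_element (p := 2) ?_ (hQ2.to_le (hUW.trans inf_le_left)) hbU Q
      hQ2 ((hUW.trans inf_le_left).trans le_normalizer) (hAQ (hBA hbB)) ?_ hq
    · exact Nat.Coprime.coprime_dvd_left
        (orderOf_dvd_of_pow_eq_one (el_pow T.el (hBA hbB)))
        ((Nat.coprime_primes Fact.out Nat.prime_two).2 h.odd)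
    · exact le_cen_singleton.2 fun d hd => (hc d hd).symm
  obtain ⟨C, hCA, -, hC, hbC, r1, hr1, hCr1, hbr1⟩ := exists_moving_hyperplane
    (L := (⊥ : Subgroup G)) T.el
    (coprime_el_two h.odd (el_isPGroup T.el) (hQ2.to_le inf_le_left)) hAD bot_le
    (fun l hl r _ => by rw [mem_bot.1 hl, one_mul, mul_one]) (hBA hbB) hmoveD
  have hCc : Nat.card C = p ^ (m - 1) := card_hyperplane T.card (by omega) hC
  set W1 := D ⊓ centralizer (C : Set G)
  obtain ⟨U1, hUW1, hAU1, ⟨k1, hk1, hbk1⟩, hU1ext, -⟩ := h.exists_ext T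
    (hQ2.to_le (inf_le_left.trans inf_le_left)) (W := W1)
    (fun w hw => commute_of_mem_Qt T.sq T.ne hw.1.1) le_rfl
    (inf_centralizer_normalized hAD fun a ha' z hz => el_commute T.el ha' (hCA hz)) (hBA hbB)
    (el_le_normalizer T.el (zpowers_le.2 (hBA hbB))) hCA
    (fun l hl w hw => mem_centralizer_iff.1 hw.2 l hl) (by
      rw [hyperplane_sup T.el hCA hC (hBA hbB) hbC, T.card]
      exact Nat.pow_le_pow_right hp1.le (Nat.sub_le m 1))
    ⟨r1, ⟨hr1, mem_centralizer_iff.2 fun z hz => hCr1 z hz⟩, hbr1⟩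
  obtain ⟨u1, hu1, w1, hw1, hu12, hw12, huw1⟩ := h.exists_pair T hAU1
    (fun v hv => commute_of_mem_Qt T.sq T.ne (hUW1 hv).1.1) hU1ext hCA hCc.ge
    (fun z hz v hv => mem_centralizer_iff.1 (hUW1 hv).2 z hz) ⟨b, hBA hbB, k1, hk1, hbk1⟩
  have hcomm : ∀ v ∈ U, ∀ v1 ∈ U1, v * v1 = v1 * v := fun v hv v1 hv1 =>
    mem_centralizer_iff.1 (hUW1 hv1).1.2 v hv
  obtain ⟨hel, hcard⟩ := el_eight T.sq T.ne hu2 hw2 hu12 hw12 huw huw1 (hcomm u hu u1 hu1)
    (hcomm u hu w1 hw1) (hcomm w hw u1 hu1) (hcomm w hw w1 hw1)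
  have hL : p ^ (m - 2) ≤ Nat.card ↥(B ⊓ C) := by
    have h1 := card_le_card_inf_mul hBA hCA hB
    rw [hCc, show m - 1 = m - 2 + 1 by omega, pow_succ] at h1
    exact Nat.le_of_mul_le_mul_right h1 (Fact.out : p.Prime).pos
  refine h.pingpong (l := m - 2) (k := 3) (el_mono T.el (inf_le_left.trans hBA)) hel
    (fun l hl z hz => ?_) (by omega) (by norm_num) hL (by norm_num; omega) (by omega)
  have h1 : ∀ v ∈ U, Commute l v := fun v hv => mem_centralizer_iff.1 (hUW hv).2 l hl.1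
  have h2 : ∀ v ∈ U1, Commute l v := fun v hv => mem_centralizer_iff.1 (hUW1 hv).2 l hl.2
  exact (mem_centralizer_singleton_iff.1 ((sup_le (sup_le
    (zpowers_le.2 (mem_centralizer_singleton_iff.2 (T.commute l (hBA hl.1)).symm))
    (zpowers_le.2 (mem_centralizer_singleton_iff.2 ((h1 u hu).mul_right (h2 u1 hu1)).eq.symm)))
    (zpowers_le.2 (mem_centralizer_singleton_iff.2 ((h1 w hw).mul_right (h2 w1 hw1)).eq.symm))
      : _ ≤ centralizer ({l} : Set G)) hz)).symm

/-- The 2-local `p`-rank is at most 2. -/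
theorem two_local_rank (hp : p ≠ 2) (hGp : Cfsg.IsOfLocalCharacteristic p G)
    (hG2 : Cfsg.IsCharacteristicTwoType G) : Cfsg.TwoLocalPRankLE p 2 G := by
  classical
  let P : ℕ → Prop := fun i => ∃ T A : Subgroup G, IsPGroup 2 T ∧ T ≠ ⊥ ∧
    Cfsg.IsElementaryAbelian p A ∧ A ≤ normalizer (T : Set G) ∧ Nat.card A = p ^ i
  have hp1 := (Fact.out : p.Prime).one_lt
  have hbig : ∀ i, P i → i ≤ Nat.card G := fun i ⟨_, A, _, _, _, _, hc⟩ =>
    (Nat.lt_pow_self hp1).le.trans (hc ▸ Finite.card_subtype_le _)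
  rintro H ⟨T, hT, hT1, rfl⟩ A0 hA0c hA0e
  by_contra hcon
  push Not at hcon
  have hA : Cfsg.IsElementaryAbelian p (A0.map (normalizer (T : Set G)).subtype) := by
    refine el_mk ?_ ?_
    · rintro _ ⟨a, ha, rfl⟩ _ ⟨b, hb, rfl⟩
      rw [← map_mul, ← map_mul]
      exact congrArg _ (congrArg Subtype.val (mul_comm' (⟨a, ha⟩ : A0) ⟨b, hb⟩))
    · rintro _ ⟨a, ha, rfl⟩
      rw [← map_pow, hA0e a ha, map_one]
  obtain ⟨i, hi⟩ := el_card_pow hA
  have hPi : P i := ⟨T, _, hT, hT1, hA, map_subtype_le _, hi⟩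
  have hi3 : 3 ≤ i := by
    rw [← Nat.card_congr (A0.equivMapOfInjective _ (subtype_injective _)).toEquiv.symm, hi] at hcon
    exact (Nat.pow_lt_pow_iff_right hp1).1 hcon
  set m := Nat.findGreatest P (Nat.card G)
  have hle : ∀ j, P j → j ≤ m := fun j hj => Nat.le_findGreatest (hbig j hj) hj
  have hPm : P m := Nat.findGreatest_spec (hbig i hPi) hPi
  have hctx : Ctx G p m := ⟨hp, hi3.trans (hle i hPi), hGp, hG2, fun S hS hS1 A hA' hAS => by
    obtain ⟨j, hj⟩ := el_card_pow hA'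
    rw [hj]
    exact Nat.pow_le_pow_right hp1.le (hle j ⟨S, A, hS, hS1, hA', hAS, hj⟩)⟩
  obtain ⟨T1, A1, hT1', hT11, hA1, hA1T, hA1c⟩ := hPm
  obtain ⟨t, htop⟩ := hctx.exists_top hT1' hT11 hA1 hA1T hA1c
  exact hctx.top_false htop

end Cfsg.Lib.KlingerMason
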