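import Cfsg.Agent.LocalEven.KlingerMason.Basic

/-!
2-groups acted on by an elementary abelian `p`-group of largest rank: extraspecial behaviour and
quaternion pairs.
-/

set_option linter.style.haveILetI false
set_option linter.unusedSectionVars false

namespace Cfsg.Lib.KlingerMason

open Subgroup
open scoped commutatorElement

universe u

variable {G : Type u} [Group G] [Finite G] {p m : ℕ}

/-- Commutators and squares lie in `⟨t⟩`. -/
structure Ext (t : G) (K : Subgroup G) : Prop where
  comm : ∀ a ∈ K, ∀ b ∈ K, a * b = b * a ∨ a * b = t * (b * a)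
  sq : ∀ a ∈ K, a * a = 1 ∨ a * a = t

/-- `A` has largest rank and centralizes the involution `t`. -/
structure Top (p m : ℕ) (A : Subgroup G) (t : G) : Prop where
  el : Cfsg.IsElementaryAbelian p A
  card : Nat.card A = p ^ m
  sq : t * t = 1
  ne : t ≠ 1
  commute : ∀ a ∈ A, a * t = t * a

variable [Fact p.Prime]

theorem commute_of_sq (hp : p ≠ 2) {a z : G} (ha : a ^ p = 1) (h : a * a * z = z * (a * a)) :
    a * z = z * a := by
  obtain ⟨k, hk⟩ := (Fact.out : p.Prime).odd_of_ne_two hp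
  have e : (a * a) ^ (k + 1) = a := by
    rw [← sq, ← pow_mul, show 2 * (k + 1) = p + 1 by omega, pow_succ, ha, one_mul]
  rw [← e]
  exact (Commute.pow_left h (k + 1)).eq

theorem el_four {t x : G} (ht : t * t = 1) (ht1 : t ≠ 1) (hx : x * x = 1) (hxt : x * t = t * x)
    (hxn : x ∉ zpowers t) :
    Cfsg.IsElementaryAbelian 2 (zpowers t ⊔ zpowers x) ∧
      Nat.card ↥(zpowers t ⊔ zpowers x) = 4 := by
  haveI := Fact.mk Nat.prime_two
  have hc : ∀ a ∈ zpowers t, a * x = x * a := zpowers_commute hxt.symm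
  refine ⟨el_sup_zpowers (el_zpowers (by rw [sq, ht])) (by rw [sq, hx]) hc, ?_⟩
  rw [card_sup_zpowers (by rw [sq, hx]) hxn
    (centralizer_le_normalizer _ (mem_centralizer_iff.2 hc)), Nat.card_zpowers,
    orderOf_eq_prime (by rw [sq, ht]) ht1]

variable {A : Subgroup G} {t : G}

/-- An element of order 2 commuting with `t` and `A` lies in `⟨t⟩`. -/
theorem Ctx.inv_in_zpowers (h : Ctx G p m) (T : Top p m A t) {x : G} (hx : x * x = 1)
    (hxt : x * t = t * x) (hA : ∀ a ∈ A, a * x = x * a) : x ∈ zpowers t := by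
  by_contra hn
  obtain ⟨hel, hc⟩ := el_four T.sq T.ne hx hxt hn
  have := h.three
  have := h.rank_bound (L := A) (l := m) (k := 2) T.el hel (fun a ha z hz =>
    (mem_centralizer_singleton_iff.1 ((sup_le
      (zpowers_le.2 (mem_centralizer_singleton_iff.2 (T.commute a ha).symm))
      (zpowers_le.2 (mem_centralizer_singleton_iff.2 (hA a ha).symm))
        : zpowers t ⊔ zpowers x ≤ centralizer ({a} : Set G)) hz)).symm)
    (by omega) (by norm_num) T.card.ge (by rw [hc]; norm_num)
  omega

/-- If an involution centralized by a hyperplane commutes with a conjugate under `A`, it is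
fixed. -/
theorem Ctx.inv_fixed (h : Ctx G p m) (T : Top p m A t) {H : Subgroup G} (hHA : H ≤ A)
    (hH : p ^ (m - 1) ≤ Nat.card H) {x : G} (hx : x * x = 1) (hxt : x * t = t * x)
    (hHx : ∀ b ∈ H, b * x = x * b) {a : G} (ha : a ∈ A)
    (hc : x * (a * x * a⁻¹) = a * x * a⁻¹ * x) : a * x = x * a := by
  haveI := Fact.mk Nat.prime_two
  by_cases hn : x ∈ zpowers t
  · rcases mem_zpowers_two T.sq hn with rfl | rfl
    · rw [one_mul, mul_one]
    · exact T.commute a ha
  obtain ⟨hel, hcard⟩ := el_four T.sq T.ne hx hxt hn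
  set x' := a * x * a⁻¹ with hx'
  have hx'2 : x' * x' = 1 := by
    rw [hx', show a * x * a⁻¹ * (a * x * a⁻¹) = a * (x * x) * a⁻¹ by group, hx]; group
  have hat : a * t * a⁻¹ = t := mul_inv_eq_iff_eq_mul.2 (T.commute a ha)
  have hx't : x' * t = t * x' := by
    calc x' * t = x' * (a * t * a⁻¹) := by rw [hat]
      _ = a * (x * t) * a⁻¹ := by rw [hx']; group
      _ = (a * t * a⁻¹) * x' := by rw [hxt, hx']; group
      _ = t * x' := by rw [hat]
  set E := zpowers t ⊔ zpowers x
  have hEx' : ∀ z ∈ E, z * x' = x' * z := le_cen_singleton.1 (sup_le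
    (zpowers_le.2 (mem_centralizer_singleton_iff.2 hx't.symm))
    (zpowers_le.2 (mem_centralizer_singleton_iff.2 hc)))
  by_cases hmem : x' ∈ E
  · obtain ⟨y, hy, z, hz, hyz⟩ := (Cfsg.Lib.Coprime.mem_sup_of_le_normalizer
      (zpowers_le.2 (mem_nzp_of_commute hxt))).1 hmem
    have hback : x = a⁻¹ * x' * a := by rw [hx']; group
    rcases mem_zpowers_two T.sq hy with rfl | rfl <;> rcases mem_zpowers_two hx hz with rfl | rfl
    · exact absurd (by rw [hback, ← hyz]; group; exact one_mem _ : x ∈ zpowers t) hn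
    · rw [one_mul] at hyz
      exact mul_inv_eq_iff_eq_mul.1 hyz.symm
    · refine absurd (?_ : x ∈ zpowers y) hn
      rw [hback, ← hyz, mul_one, mul_assoc, ← T.commute a ha, inv_mul_cancel_left]
      exact mem_zpowers _
    · refine commute_of_sq h.odd (el_pow T.el ha) (mul_inv_eq_iff_eq_mul.1 ?_)
      calc a * a * z * (a * a)⁻¹ = a * x' * a⁻¹ := by rw [hx']; group
        _ = (a * y * a⁻¹) * (a * z * a⁻¹) := by rw [← hyz]; group
        _ = y * x' := by rw [hat]
        _ = z := by rw [← hyz, ← mul_assoc, T.sq, one_mul]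
  · exfalso
    have hel' := el_sup_zpowers hel (by rw [sq, hx'2]) hEx'
    have hcard' := card_sup_zpowers (q := 2) (by rw [sq, hx'2]) hmem
      (centralizer_le_normalizer _ (mem_centralizer_iff.2 hEx'))
    have hH' : ∀ b ∈ H, b * x' = x' * b := by
      intro b hb
      have h1 : Commute b a := el_commute T.el (hHA hb) ha
      exact ((h1.mul_right (hHx b hb)).mul_right h1.inv_right).eq
    have := h.three
    have := h.rank_bound (L := H) (l := m - 1) (k := 3) (el_mono T.el hHA) hel'
      (fun b hb z hz => (mem_centralizer_singleton_iff.1 ((sup_le (sup_le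
        (zpowers_le.2 (mem_centralizer_singleton_iff.2 (T.commute b (hHA hb)).symm))
        (zpowers_le.2 (mem_centralizer_singleton_iff.2 (hHx b hb).symm)))
        (zpowers_le.2 (mem_centralizer_singleton_iff.2 (hH' b hb).symm))
          : E ⊔ zpowers x' ≤ centralizer ({b} : Set G)) hz)).symm)
      (by omega) (by norm_num) hH (by rw [hcard', hcard]; norm_num)
    omega

/-- A minimal invariant subgroup moved by `y` is of extraspecial type. -/
theorem Ctx.exists_ext (h : Ctx G p m) (T : Top p m A t) {W X L : Subgroup G}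
    (hW : IsPGroup 2 W) (hWt : ∀ w ∈ W, w * t = t * w) (hAX : A ≤ X)
    (hXW : X ≤ normalizer (W : Set G)) {y : G} (hy : y ∈ A)
    (hXy : X ≤ normalizer (zpowers y : Set G)) (hLA : L ≤ A)
    (hLW : ∀ l ∈ L, ∀ w ∈ W, l * w = w * l) (hcard : p ^ (m - 1) ≤ Nat.card ↥(L ⊔ zpowers y))
    (hmove : ∃ w ∈ W, y * w ≠ w * y) :
    ∃ K : Subgroup G, K ≤ W ∧ X ≤ normalizer (K : Set G) ∧ (∃ k ∈ K, y * k ≠ k * y) ∧ Ext t K ∧
      ∀ v ∈ K, y * v = v * y → ∀ k ∈ K, v * k = k * v := by
  haveI := Fact.mk Nat.prime_two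
  obtain ⟨K, ⟨hKW, hXK, hKm⟩, hmin⟩ := exists_minimal_of_wellFoundedLT
    (fun R : Subgroup G => R ≤ W ∧ X ≤ normalizer (R : Set G) ∧ ∃ k ∈ R, y * k ≠ k * y)
    ⟨W, le_rfl, hXW, hmove⟩
  have hproper : ∀ R : Subgroup G, R ≤ K → R ≠ K → X ≤ normalizer (R : Set G) →
      ∀ r ∈ R, y * r = r * y := fun R hR hne hX r hr => by
    by_contra hc
    exact hne (le_antisymm hR (hmin ⟨hR.trans hKW, hX, r, hr, hc⟩ hR))
  have hK2 : IsPGroup 2 K := hW.to_le hKW
  set Y := zpowers y
  have hYK : Y ≤ normalizer (K : Set G) := zpowers_le.2 (hXK (hAX hy))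
  have hYKeq : ⁅Y, K⁆ = K := by
    have hle : ⁅Y, K⁆ ≤ K := le_normalizer_iff_commutator_le_right.1 hYK
    by_contra hne
    obtain ⟨k, hk, hyk⟩ := hKm
    refine hyk (Cfsg.Lib.Components.centralize_of_commutator_fixed hK2 ?_ (hXK (hAX hy)) hk ?_)
    · exact Nat.Coprime.coprime_dvd_left (orderOf_dvd_of_pow_eq_one (el_pow T.el hy))
        ((Nat.coprime_primes Fact.out Nat.prime_two).2 h.odd)
    · exact mul_inv_eq_iff_eq_mul.2 (hproper _ hle hne
        (Cfsg.Lib.CommFixedGen.le_normalizer_commutator hXy hXK) _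
          (commutator_mem_commutator (mem_zpowers y) hk))
  set D := closure {x : G | ∃ a ∈ K, x = a * a} with hD
  have hDK : D ≤ K := (closure_le _).2 fun x ⟨a, ha, e⟩ => e ▸ mul_mem ha ha
  have hXD : X ≤ normalizer (D : Set G) := by
    refine le_normalizer_iff.2 fun g hg d hd => ?_
    refine (closure_le (K := D.comap (MulAut.conj g).toMonoidHom)).2 ?_ hd
    rintro _ ⟨a, ha, rfl⟩
    exact subset_closure ⟨g * a * g⁻¹, (mem_normalizer_iff.1 (hXK hg) a).1 ha, by
      show g * (a * a) * g⁻¹ = _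
      group⟩
  have hDne : D ≠ K := by
    intro he
    obtain ⟨n, hn⟩ := IsPGroup.iff_card.1 hK2
    obtain ⟨j, rfl⟩ : ∃ j, n = j + 1 := Nat.exists_eq_succ_of_ne_zero fun e => by
      obtain ⟨k, hk, hyk⟩ := hKm
      rw [e, pow_zero] at hn
      rw [Subgroup.eq_bot_of_card_eq K hn, mem_bot] at hk
      rw [hk, one_mul, mul_one] at hyk
      exact hyk rfl
    obtain ⟨M, hM⟩ := Sylow.exists_subgroup_card_pow_prime 2 (n := j) (G := K)
      (hn ▸ pow_dvd_pow 2 (Nat.le_succ j))
    have hi : M.index = 2 := by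
      have := Subgroup.card_mul_index M
      rw [hM, hn, pow_succ] at this
      exact Nat.eq_of_mul_eq_mul_left (pow_pos (by norm_num) j) this
    have hKM : K ≤ M.map K.subtype := by
      refine he.ge.trans ((closure_le _).2 ?_)
      rintro _ ⟨a, ha, rfl⟩
      exact ⟨⟨a, ha⟩ * ⟨a, ha⟩, mul_self_mem_of_index_two hi _, rfl⟩
    have htop : M = ⊤ := eq_top_iff.2 fun k _ => by
      obtain ⟨k', hk', e⟩ := hKM k.2
      exact (Subtype.ext e : k' = k) ▸ hk'
    rw [htop, index_top] at hi
    exact absurd hi (by norm_num)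
  have hDy := hproper D hDK hDne hXD
  have hcommD : ⁅K, K⁆ ≤ D := commutator_le.2 fun a ha b hb => by
    rw [commutatorElement_def, show a * b * a⁻¹ * b⁻¹ =
      (a * b) * (a * b) * ((b⁻¹ * a⁻¹ * b) * (b⁻¹ * a⁻¹ * b)) * (b⁻¹ * b⁻¹) by group]
    exact mul_mem (mul_mem (subset_closure ⟨a * b, mul_mem ha hb, rfl⟩)
      (subset_closure ⟨_, mul_mem (mul_mem (inv_mem hb) (inv_mem ha)) hb, rfl⟩))
      (subset_closure ⟨_, inv_mem hb, rfl⟩)
  -- what is fixed by `y` is central
  have hcentral : ∀ R : Subgroup G, R ≤ K → (∀ r ∈ R, y * r = r * y) →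
      ∀ r ∈ R, ∀ k ∈ K, r * k = k * r := by
    intro R hR hRy
    have a1 : ⁅⁅K, R⁆, Y⁆ = ⊥ := by
      rw [commutator_eq_bot_iff_le_centralizer]
      exact fun z hz => mem_centralizer_iff.2
        (zpowers_commute (hDy z (hcommD (commutator_mono le_rfl hR hz))))
    have a2 : ⁅⁅R, Y⁆, K⁆ = ⊥ := by
      rw [show ⁅R, Y⁆ = ⊥ from commutator_eq_bot_iff_le_centralizer.2 fun r hr =>
        mem_centralizer_iff.2 (zpowers_commute (hRy r hr)), commutator_bot_left]
    have a3 := commutator_commutator_eq_bot_of_rotate a1 a2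
    rw [hYKeq] at a3
    exact fun r hr k hk =>
      (mem_centralizer_iff.1 (commutator_eq_bot_iff_le_centralizer.1 a3 hk) r hr)
  have hDc := hcentral D hDK hDy
  refine ⟨K, hKW, hXK, hKm, ?_, fun v hv hyv => hcentral (K ⊓ centralizer ({y} : Set G))
    inf_le_left (fun r hr => (mem_centralizer_singleton_iff.1 hr.2).symm) v
    ⟨hv, mem_centralizer_singleton_iff.2 hyv.symm⟩⟩
  -- the derived group
  let S1 : Subgroup G :=
    { carrier := {z | z ∈ D ∧ z * z = 1}
      one_mem' := ⟨one_mem _, one_mul 1⟩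
      mul_mem' := fun {a b} ha hb => ⟨mul_mem ha.1 hb.1, by
        have hab : b * a = a * b := (hDc a ha.1 b (hDK hb.1)).symm
        rw [show a * b * (a * b) = a * (b * a) * b by group, hab,
          show a * (a * b) * b = (a * a) * (b * b) by group, ha.2, hb.2, one_mul]⟩
      inv_mem' := fun {a} ha => ⟨inv_mem ha.1, by rw [← mul_inv_rev, ha.2, inv_one]⟩ }
  have hS1 : ⁅K, K⁆ ≤ S1 := commutator_le.2 fun a ha b hb => by
    have hc : ⁅a, b⁆ ∈ D := hcommD (commutator_mem_commutator ha hb)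
    refine ⟨hc, ?_⟩
    have h2 : ⁅a * a, b⁆ = 1 :=
      commutatorElement_eq_one_iff_mul_comm.2 (hDc _ (subset_closure ⟨a, ha, rfl⟩) b hb)
    rw [Cfsg.Lib.CommFixedGen.comm_mul_left,
      mul_inv_eq_iff_eq_mul.2 (hDc _ hc a ha).symm] at h2
    exact h2
  have hZ : ∀ z ∈ ⁅K, K⁆, z ∈ zpowers t := by
    intro z hz
    obtain ⟨hzD, hz2⟩ := hS1 hz
    have hzt := hWt z (hKW (hDK hzD))
    refine h.inv_in_zpowers T hz2 hzt fun a ha => h.inv_fixed T (sup_le hLA (zpowers_le.2 hy)) hcard hz2
      hzt (le_cen_singleton.1 (sup_le (le_cen_singleton.2 fun l hl => hLW l hl z (hKW (hDK hzD)))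
        (zpowers_le.2 (mem_centralizer_singleton_iff.2 (hDy z hzD))))) ha ?_
    exact hDc z hzD _ ((mem_normalizer_iff.1 (hXK (hAX ha)) z).1 (hDK hzD))
  have hcomm : ∀ a ∈ K, ∀ b ∈ K, a * b = b * a ∨ a * b = t * (b * a) := fun a ha b hb => by
    have e : a * b = ⁅a, b⁆ * (b * a) := by rw [commutatorElement_def]; group
    rcases mem_zpowers_two T.sq (hZ _ (commutator_mem_commutator ha hb)) with h1 | h1
    · exact Or.inl (by rw [e, h1, one_mul])
    · exact Or.inr (by rw [e, h1])
  refine ⟨hcomm, ?_⟩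
  let S2 : Subgroup G :=
    { carrier := {z | z ∈ K ∧ z * z ∈ zpowers t}
      one_mem' := ⟨one_mem _, by rw [one_mul]; exact one_mem _⟩
      mul_mem' := fun {a b} ha hb => ⟨mul_mem ha.1 hb.1, by
        rcases hcomm b hb.1 a ha.1 with h1 | h1
        · rw [show a * b * (a * b) = a * (b * a) * b by group, h1,
            show a * (a * b) * b = (a * a) * (b * b) by group]
          exact mul_mem ha.2 hb.2
        · rw [show a * b * (a * b) = a * (b * a) * b by group, h1,
            show a * (t * (a * b)) * b = (a * t) * (a * (b * b)) by group, hWt a (hKW ha.1),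
            show t * a * (a * (b * b)) = t * ((a * a) * (b * b)) by group]
          exact mul_mem (mem_zpowers t) (mul_mem ha.2 hb.2)⟩
      inv_mem' := fun {a} ha => ⟨inv_mem ha.1, by rw [← mul_inv_rev]; exact inv_mem ha.2⟩ }
  have hS2 : ⁅Y, K⁆ ≤ S2 := commutator_le.2 fun z hz k hk => by
    set c := ⁅z, k⁆ with hc
    have hcK : c ∈ K := hYKeq ▸ commutator_mem_commutator hz hk
    refine ⟨hcK, ?_⟩
    have hkk : z * (k * k) * z⁻¹ = k * k := mul_inv_eq_iff_eq_mul.2
      (zpowers_commute (hDy _ (subset_closure ⟨k, hk, rfl⟩)) z hz)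
    have hck : c * k * (c * k) = k * k := by
      rw [show c * k = z * k * z⁻¹ by rw [hc, commutatorElement_def]; group,
        show z * k * z⁻¹ * (z * k * z⁻¹) = z * (k * k) * z⁻¹ by group, hkk]
    rw [show c * k * (c * k) = c * (k * c) * k by group] at hck
    rcases hcomm k hk c hcK with h1 | h1
    · rw [h1, show c * (c * k) * k = c * c * (k * k) by group, mul_eq_right] at hck
      rw [hck]; exact one_mem _
    · rw [h1, show c * (t * (c * k)) * k = (c * t) * c * (k * k) by group, hWt c (hKW hcK),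
        mul_eq_right, mul_assoc] at hck
      rw [eq_inv_of_mul_eq_one_right hck]
      exact inv_mem (mem_zpowers t)
  exact fun a ha => mem_zpowers_two T.sq (hS2 (hYKeq.symm ▸ ha)).2

/-- Two anticommuting elements with square `t`. -/
theorem Ctx.exists_pair (h : Ctx G p m) (T : Top p m A t) {U C : Subgroup G}
    (hAU : A ≤ normalizer (U : Set G)) (hUt : ∀ u ∈ U, u * t = t * u) (hU : Ext t U)
    (hCA : C ≤ A) (hC : p ^ (m - 1) ≤ Nat.card C) (hCU : ∀ c ∈ C, ∀ u ∈ U, c * u = u * c)
    (hmove : ∃ a ∈ A, ∃ v ∈ U, a * v ≠ v * a) :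
    ∃ u ∈ U, ∃ w ∈ U, u * u = t ∧ w * w = t ∧ u * w = t * (w * u) := by
  have hconj : ∀ a ∈ A, ∀ v ∈ U, a * v * a⁻¹ ∈ U := fun a ha v hv =>
    (mem_normalizer_iff.1 (hAU ha) v).1 hv
  by_cases hinv : ∃ x ∈ U, x * x = 1 ∧ x ∉ zpowers t
  · obtain ⟨x, hxU, hx2, hxn⟩ := hinv
    obtain ⟨a, ha, hax⟩ : ∃ a ∈ A, a * x ≠ x * a := by
      by_contra hc
      push Not at hc
      exact hxn (h.inv_in_zpowers T hx2 (hUt x hxU) hc)
    set x1 := a * x * a⁻¹ with hx1
    set x2 := a * x1 * a⁻¹ with hx2'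
    have hx1U : x1 ∈ U := hconj a ha x hxU
    have hx2U : x2 ∈ U := hconj a ha x1 hx1U
    have hat : a * t * a⁻¹ = t := mul_inv_eq_iff_eq_mul.2 (T.commute a ha)
    have hanti : ∀ b ∈ A, b * x ≠ x * b →
        x * (b * x * b⁻¹) = t * (b * x * b⁻¹ * x) := fun b hb hbx =>
      (hU.comm x hxU _ (hconj b hb x hxU)).resolve_left fun e =>
        hbx (h.inv_fixed T hCA hC hx2 (hUt x hxU) (fun c hc => hCU c hc x hxU) hb e)
    have e01 : x * x1 = t * (x1 * x) := hanti a ha hax
    have e02 : x * x2 = t * (x2 * x) := by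
      have := hanti (a * a) (mul_mem ha ha) fun e => hax (commute_of_sq h.odd (el_pow T.el ha) e)
      rwa [show a * a * x * (a * a)⁻¹ = x2 by rw [hx2', hx1]; group] at this
    have e12 : x1 * x2 = t * (x2 * x1) := by
      calc x1 * x2 = a * (x * x1) * a⁻¹ := by rw [hx2', hx1]; group
        _ = (a * t * a⁻¹) * (x2 * x1) := by rw [e01, hx2', hx1]; group
        _ = _ := by rw [hat]
    have hx11 : x1 * x1 = 1 := by
      rw [hx1, show a * x * a⁻¹ * (a * x * a⁻¹) = a * (x * x) * a⁻¹ by group, hx2]; group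
    have hx1t := hUt x1 hx1U
    have hx22 : x2 * x2 = 1 := by
      rw [hx2', show a * x1 * a⁻¹ * (a * x1 * a⁻¹) = a * (x1 * x1) * a⁻¹ by group, hx11]; group
    refine ⟨x * x1, mul_mem hxU hx1U, x1 * x2, mul_mem hx1U hx2U, ?_, ?_, ?_⟩
    · calc x * x1 * (x * x1) = t * (x1 * x) * (x * x1) := by rw [e01]
        _ = t * (x1 * (x * x) * x1) := by group
        _ = t := by rw [hx2, mul_one, hx11, mul_one]
    · calc x1 * x2 * (x1 * x2) = t * (x2 * x1) * (x1 * x2) := by rw [e12]
        _ = t * (x2 * (x1 * x1) * x2) := by group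
        _ = t := by rw [hx11, mul_one, hx22, mul_one]
    · clear_value x1 x2
      have p1 : x * x1 * (x1 * x2) = x * x2 := by
        rw [show x * x1 * (x1 * x2) = x * (x1 * x1) * x2 by group, hx11, mul_one]
      have p2 : x1 * x2 * (x * x1) = t * (x * x2) := by
        calc x1 * x2 * (x * x1) = x1 * (x2 * x) * x1 := by group
          _ = x1 * (t * (x * x2)) * x1 := by rw [e02, ← mul_assoc t t, T.sq, one_mul]
          _ = (x1 * t) * x * (x2 * x1) := by group
          _ = t * ((x1 * x) * (x2 * x1)) := by rw [hx1t]; group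
          _ = t * ((t * (x * x1)) * (t * (x1 * x2))) := by
                rw [e01, e12, ← mul_assoc t t, T.sq, one_mul, ← mul_assoc t t, T.sq, one_mul]
          _ = (t * t) * ((x * x1) * t) * (x1 * x2) := by group
          _ = t * ((x * x1) * (x1 * x2)) := by
                rw [T.sq, one_mul, hUt (x * x1) (mul_mem hxU hx1U), mul_assoc]
          _ = t * (x * x2) := by rw [p1]
      rw [p1, p2, ← mul_assoc, T.sq, one_mul]
  · push Not at hinv
    obtain ⟨a, ha, v, hv, hav⟩ := hmove
    have hfix : ∀ z ∈ zpowers t, a * z = z * a := fun z hz =>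
      (zpowers_commute (T.commute a ha).symm z hz).symm
    have hvt : v * v = t := (hU.sq v hv).resolve_left fun e => hav (hfix v (hinv v hv e))
    set w := a * v * a⁻¹ with hw
    have hwU : w ∈ U := hconj a ha v hv
    have hwt : w * w = t := by
      rw [hw, show a * v * a⁻¹ * (a * v * a⁻¹) = a * (v * v) * a⁻¹ by group, hvt]
      exact mul_inv_eq_iff_eq_mul.2 (T.commute a ha)
    refine ⟨v, hv, w, hwU, hvt, hwt, (hU.comm v hv w hwU).resolve_left fun e => hav ?_⟩
    have h2 : v * w * (v * w) = 1 := by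
      rw [show v * w * (v * w) = v * (w * v) * w by group, ← e,
        show v * (v * w) * w = (v * v) * (w * w) by group, hvt, hwt, T.sq]
    rcases mem_zpowers_two T.sq (hinv _ (mul_mem hv hwU) h2) with h3 | h3
    · refine commute_of_sq h.odd (el_pow T.el ha) (mul_inv_eq_iff_eq_mul.1 ?_)
      have hwv : w = v⁻¹ := eq_inv_of_mul_eq_one_right h3
      calc a * a * v * (a * a)⁻¹ = a * w * a⁻¹ := by rw [hw]; group
        _ = a * v⁻¹ * a⁻¹ := by rw [hwv]
        _ = w⁻¹ := by rw [hw]; group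
        _ = v := by rw [hwv, inv_inv]
    · exact mul_inv_eq_iff_eq_mul.1 (mul_left_cancel (h3.trans hvt.symm))

/-- Two commuting quaternion pairs give an elementary abelian group of order 8. -/
theorem el_eight {t u w u' w' : G} (ht : t * t = 1) (ht1 : t ≠ 1) (hu : u * u = t)
    (hw : w * w = t) (hu' : u' * u' = t) (hw' : w' * w' = t) (huw : u * w = t * (w * u))
    (huw' : u' * w' = t * (w' * u')) (h1 : u * u' = u' * u) (h2 : u * w' = w' * u)
    (h3 : w * u' = u' * w) (h4 : w * w' = w' * w) :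
    Cfsg.IsElementaryAbelian 2 (zpowers t ⊔ zpowers (u * u') ⊔ zpowers (w * w')) ∧
      8 ≤ Nat.card ↥(zpowers t ⊔ zpowers (u * u') ⊔ zpowers (w * w')) := by
  haveI := Fact.mk Nat.prime_two
  have tu : Commute t u := by rw [← hu]; exact (Commute.refl u).mul_left (Commute.refl u)
  have tw : Commute t w := by rw [← hw]; exact (Commute.refl w).mul_left (Commute.refl w)
  have tu' : Commute t u' := by rw [← hu']; exact (Commute.refl u').mul_left (Commute.refl u')
  have tw' : Commute t w' := by rw [← hw']; exact (Commute.refl w').mul_left (Commute.refl w')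
  have ha2 : u * u' * (u * u') = 1 := by
    rw [show u * u' * (u * u') = u * (u' * u) * u' by group, ← h1,
      show u * (u * u') * u' = u * u * (u' * u') by group, hu, hu', ht]
  have hb2 : w * w' * (w * w') = 1 := by
    rw [show w * w' * (w * w') = w * (w' * w) * w' by group, ← h4,
      show w * (w * w') * w' = w * w * (w' * w') by group, hw, hw', ht]
  have hat : u * u' * t = t * (u * u') := (tu.mul_right tu').symm.eq
  have hab : u * u' * (w * w') = w * w' * (u * u') := by
    calc u * u' * (w * w') = u * (u' * w) * w' := by group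
      _ = u * w * (u' * w') := by rw [← h3]; group
      _ = t * (w * u) * (t * (w' * u')) := by rw [huw, huw']
      _ = t * (w * (u * t)) * (w' * u') := by group
      _ = t * ((w * t) * u) * (w' * u') := by rw [← tu.eq]; group
      _ = (t * t) * w * (u * w') * u' := by rw [← tw.eq]; group
      _ = _ := by rw [ht, h2]; group
  have hcomm : u' * w' ≠ w' * u' := fun e => ht1 (mul_eq_right.1 (huw'.symm.trans e))
  have han : u * u' ∉ zpowers t := fun hm => hcomm <| by
    have e : u' = u⁻¹ * (u * u') := by group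
    have hc : Commute (u⁻¹ * (u * u')) w' :=
      (Commute.inv_left h2).mul_left (zpowers_commute tw'.eq _ hm)
    rw [← e] at hc
    exact hc.eq
  obtain ⟨hel, hcard⟩ := el_four ht ht1 ha2 hat han
  have hE : ∀ z ∈ zpowers t ⊔ zpowers (u * u'), z * (w * w') = w * w' * z :=
    le_cen_singleton.1 (sup_le (zpowers_le.2 (mem_centralizer_singleton_iff.2
      (tw.mul_right tw').eq)) (zpowers_le.2 (mem_centralizer_singleton_iff.2 hab)))
  have hbn : w * w' ∉ zpowers t ⊔ zpowers (u * u') := fun hm => hcomm <| by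
    obtain ⟨z, hz, x, hx, e⟩ := (Cfsg.Lib.Coprime.mem_sup_of_le_normalizer
      (zpowers_le.2 (mem_nzp_of_commute hat))).1 hm
    have hzu : Commute z u' := zpowers_commute tu'.eq _ hz
    have hxu : Commute x u' := zpowers_commute
      ((show Commute u u' from h1).mul_left (Commute.refl u')).eq _ hx
    have hc : Commute w' u' := by
      rw [show w' = w⁻¹ * (z * x) by rw [e]; group]
      exact (Commute.inv_left h3).mul_left (hzu.mul_left hxu)
    exact hc.symm.eq
  refine ⟨el_sup_zpowers hel (by rw [sq, hb2]) hE, ?_⟩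
  rw [card_sup_zpowers (by rw [sq, hb2]) hbn
    (centralizer_le_normalizer _ (mem_centralizer_iff.2 hE)), hcard]

end Cfsg.Lib.KlingerMason
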