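import Cfsg.Agent.LocalEven.KlingerMason.Pair

/-!
No commuting pair `L`, `E` of total rank exceeding `m` with `E` noncyclic.
-/

set_option linter.style.haveILetI false
set_option linter.unusedSectionVars false

namespace Cfsg.Lib.KlingerMason

open Subgroup

universe u

variable {G : Type u} [Group G] [Finite G] {p m : ℕ}

/-- `O_2(C(t))`. -/
abbrev Qt (t : G) : Subgroup G := Cfsg.pCoreOf 2 (normalizer (zpowers t : Set G))

theorem commute_of_mem_Qt {t : G} (ht : t * t = 1) (ht1 : t ≠ 1) {x : G} (hx : x ∈ Qt t) :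
    x * t = t * x := by
  have h := (mem_normalizer_iff.1 (core_le 2 _ hx) t).1 (mem_zpowers t)
  rcases mem_zpowers_two ht h with h | h
  · exact absurd (conj_eq_one_iff.1 h) ht1
  · exact mul_inv_eq_iff_eq_mul.1 h

theorem conj_mem_Qt {t g q : G} (hg : g * t = t * g) (hq : q ∈ Qt t) : g * q * g⁻¹ ∈ Qt t :=
  (mem_normalizer_iff.1 (core_normalized 2 _ (mem_nzp_of_commute hg)) q).1 hq

theorem card_hyperplane [hp : Fact p.Prime] {A B : Subgroup G} (hA : Nat.card A = p ^ m)
    (hm : 1 ≤ m) (h : Nat.card A = Nat.card B * p) : Nat.card B = p ^ (m - 1) := by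
  rw [hA, show m = (m - 1) + 1 by omega, pow_succ] at h
  exact (Nat.eq_of_mul_eq_mul_right hp.out.pos h).symm

theorem inf_centralizer_normalized {A R C : Subgroup G} (hAR : A ≤ normalizer (R : Set G))
    (hAC : ∀ a ∈ A, ∀ c ∈ C, a * c = c * a) :
    A ≤ normalizer ((R ⊓ centralizer (C : Set G) : Subgroup G) : Set G) := by
  refine le_normalizer_iff.2 fun g hg x hx => mem_inf.2
    ⟨(mem_normalizer_iff.1 (hAR hg) x).1 hx.1, mem_centralizer_iff.2 fun c hc => ?_⟩
  have h1 : Commute c g := (hAC g hg c hc).symm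
  exact ((h1.mul_right (mem_centralizer_iff.1 hx.2 c hc)).mul_right h1.inv_right).eq

variable [Fact p.Prime]

theorem Ctx.core_false (h : Ctx G p m) {A H : Subgroup G} {t e y a0 : G} (T : Top p m A t)
    (he : e * e = 1) (het : e * t = t * e) (hHA : H ≤ A) (hH : Nat.card A = Nat.card H * p)
    (heH : ∀ x ∈ H, e * x = x * e) (hy : y ∈ A) (hyH : y ∉ H) (hey : e * y * e⁻¹ = y⁻¹)
    (ha0 : a0 ∈ H) (hyO : y ∈ Op p a0) : False := by
  haveI := Fact.mk Nat.prime_two
  have hm := h.three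
  have hei : e⁻¹ = e := inv_eq_of_mul_eq_one_left he
  have hee : ∀ x : G, e * (e * x * e⁻¹) * e⁻¹ = x := fun x => by
    rw [show e * (e * x * e⁻¹) * e⁻¹ = (e * e) * x * (e * e)⁻¹ by group, he]; group
  have hy1 : y ≠ 1 := fun e1 => hyH (e1 ▸ one_mem H)
  have hyp := el_pow T.el hy
  have hAH : H ⊔ zpowers y = A := hyperplane_sup T.el hHA hH hy hyH
  have heY : ∀ x ∈ zpowers y, e * x * e⁻¹ = x⁻¹ := by
    intro x hx
    obtain ⟨i, rfl⟩ := mem_zpowers_iff.1 hx
    rw [← conj_zpow, hey, inv_zpow]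
  have hsum : ∀ x ∈ A, ∃ b ∈ H, ∃ z ∈ zpowers y, x = b * z ∧ e * x * e⁻¹ = b * z⁻¹ := by
    intro x hx
    rw [← hAH] at hx
    obtain ⟨b, hb, z, hz, rfl⟩ := (Cfsg.Lib.Coprime.mem_sup_of_le_normalizer
      (zpowers_le.2 (el_le_normalizer T.el hHA hy))).1 hx
    refine ⟨b, hb, z, hz, rfl, ?_⟩
    rw [show e * (b * z) * e⁻¹ = (e * b * e⁻¹) * (e * z * e⁻¹) by group, heY z hz,
      mul_inv_eq_iff_eq_mul.2 (heH b hb)]
  have heA : ∀ x ∈ A, e * x * e⁻¹ ∈ A := fun x hx => by
    obtain ⟨b, hb, z, hz, -, hxe⟩ := hsum x hx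
    rw [hxe]
    exact mul_mem (hHA hb) (inv_mem (zpowers_le.2 hy hz))
  have hkey : ∀ B : Subgroup G, B ≤ A → y ∉ B → ∀ x ∈ B, e * x * e⁻¹ ∈ B → x ∈ H := by
    intro B hBA hyB x hx hxB
    obtain ⟨b, hb, z, hz, hxz, hxe⟩ := hsum x (hBA hx)
    have hz2 : z * z ∈ B ⊓ zpowers y := by
      refine ⟨?_, mul_mem hz hz⟩
      have hzb : z * b = b * z := el_commute T.el (zpowers_le.2 hy hz) (hHA hb)
      have h2 := mul_mem (inv_mem hxB) hx
      rwa [hxe, hxz, show (b * z⁻¹)⁻¹ * (b * z) = z * z by group] at h2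
    rw [inf_zpowers_eq_bot hyp hyB, mem_bot] at hz2
    rw [hxz, eq_one_of_sq_of_odd h.odd (el_pow T.el (zpowers_le.2 hy hz)) hz2, mul_one]
    exact hb
  set Q := Qt t with hQ
  have hQ2 : IsPGroup 2 Q := core_isPGroup 2 _
  have htwo : IsPGroup 2 (zpowers t) := el_isPGroup (el_zpowers (by rw [sq, T.sq]))
  have hAQ : A ≤ normalizer (Q : Set G) := fun a ha =>
    core_normalized 2 _ (mem_nzp_of_commute (T.commute a ha))
  -- elements fixed by `a0` are fixed by `y`
  have ha : ∀ q ∈ Q, a0 * q = q * a0 → y * q = q * y := by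
    intro q hq hqa
    have h1 : q * y * q⁻¹ * y⁻¹ = 1 := by
      refine Cfsg.Lib.Coprime.eq_one_of_coprime
        (coprime_el_two h.odd (core_isPGroup p _) hQ2)
        (mul_mem (conj_mem_Op hqa.symm hyO) (inv_mem hyO) : _ ∈ Op p a0) ?_
      rw [show q * y * q⁻¹ * y⁻¹ = q * (y * q⁻¹ * y⁻¹) by group]
      exact mul_mem hq ((mem_normalizer_iff.1 (hAQ hy) _).1 (inv_mem hq))
    exact (mul_inv_eq_iff_eq_mul.1 (mul_inv_eq_one.1 h1)).symm
  have hmove : ∃ r ∈ Q, y * r ≠ r * y := by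
    by_contra hc
    push Not at hc
    exact hy1 (h.eq_one_of_commute_core htwo (mt zpowers_eq_bot.1 T.ne) hyp
      (mem_nzp_of_commute (T.commute y hy)) hc)
  obtain ⟨B, hBA, -, hB, hyB, r, hr, hBr, hyr⟩ := exists_moving_hyperplane (L := (⊥ : Subgroup G))
    T.el (coprime_el_two h.odd (el_isPGroup T.el) hQ2) hAQ bot_le
    (fun l hl r _ => by rw [mem_bot.1 hl, one_mul, mul_one]) hy hmove
  -- the part of `B` centralized by `e`
  set L' := B ⊓ B.map (MulAut.conj e).toMonoidHom with hL'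
  have hmap : ∀ (C : Subgroup G) (x : G), x ∈ C.map (MulAut.conj e).toMonoidHom →
      e * x * e⁻¹ ∈ C := by
    rintro C _ ⟨z, hz, rfl⟩
    show e * (e * z * e⁻¹) * e⁻¹ ∈ C
    rw [hee]; exact hz
  have hmapA : ∀ C : Subgroup G, C ≤ A → C.map (MulAut.conj e).toMonoidHom ≤ A := by
    rintro C hC _ ⟨z, hz, rfl⟩
    exact heA z (hC hz)
  have hmapc : ∀ C : Subgroup G,
      Nat.card ↥(C.map (MulAut.conj e).toMonoidHom) = Nat.card C := fun C =>
    Nat.card_congr (C.equivMapOfInjective _ (MulAut.conj e).injective).toEquiv.symm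
  have hL'A : L' ≤ A := inf_le_left.trans hBA
  have hL'H : ∀ x ∈ L', x ∈ H := fun x hx => hkey B hBA hyB x hx.1 (hmap B x hx.2)
  have hL'e : ∀ x ∈ L', e * x = x * e := fun x hx => heH x (hL'H x hx)
  have hL'c : p ^ (m - 2) ≤ Nat.card L' := by
    have h1 : Nat.card ↥(B.map (MulAut.conj e).toMonoidHom) ≤ Nat.card L' * p :=
      card_le_card_inf_mul hBA (hmapA B hBA) hB
    rw [hmapc, card_hyperplane T.card (by omega) hB, show m - 1 = m - 2 + 1 by omega,
      pow_succ] at h1
    exact Nat.le_of_mul_le_mul_right h1 (Fact.out : p.Prime).pos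
  have hLy : p ^ (m - 1) ≤ Nat.card ↥(L' ⊔ zpowers y) := by
    rw [card_sup_zpowers hyp (fun hc : y ∈ L' => hyB hc.1) (el_le_normalizer T.el hL'A hy),
      show m - 1 = m - 2 + 1 by omega, pow_succ]
    exact Nat.mul_le_mul_right _ hL'c
  set X := A ⊔ zpowers e with hX
  have hXL : ∀ g ∈ X, ∀ l ∈ L', g * l = l * g := fun g hg l hl => mem_centralizer_singleton_iff.1
    ((sup_le (le_cen_singleton.2 fun a ha' => el_commute T.el ha' (hL'A hl))
      (zpowers_le.2 (mem_centralizer_singleton_iff.2 (hL'e l hl))) :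
        X ≤ centralizer ({l} : Set G)) hg)
  have hXQ : X ≤ normalizer (Q : Set G) :=
    sup_le hAQ (zpowers_le.2 (core_normalized 2 _ (mem_nzp_of_commute het)))
  set W := Q ⊓ centralizer (L' : Set G) with hW
  have hXW : X ≤ normalizer (W : Set G) := inf_centralizer_normalized hXQ hXL
  have hXy : X ≤ normalizer (zpowers y : Set G) := by
    refine sup_le (el_le_normalizer T.el (zpowers_le.2 hy)) (le_normalizer_iff.2 fun g hg x hx => ?_)
    rcases mem_zpowers_two he hg with rfl | rfl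
    · simpa using hx
    · rw [heY x hx]; exact inv_mem hx
  have hWt : ∀ w ∈ W, w * t = t * w := fun w hw => commute_of_mem_Qt T.sq T.ne hw.1
  obtain ⟨K, hKW, hXK, hKm, hKext, hKfix⟩ := h.exists_ext T (hQ2.to_le inf_le_left) hWt
    le_sup_left hXW hy hXy hL'A (fun l hl w hw => mem_centralizer_iff.1 hw.2 l hl) hLy
    ⟨r, ⟨hr, mem_centralizer_iff.2 fun l hl => hBr l hl.1⟩, hyr⟩
  have hAK : A ≤ normalizer (K : Set G) := le_sup_left.trans hXK
  obtain ⟨C, hCA, hL'C, hC, hyC, r', hr', hCr, hyr'⟩ := exists_moving_hyperplane (L := L') T.el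
    (coprime_el_two h.odd (el_isPGroup T.el) (hQ2.to_le (hKW.trans inf_le_left))) hAK hL'A
    (fun l hl k hk => mem_centralizer_iff.1 (hKW hk).2 l hl) hy hKm
  set C' := C.map (MulAut.conj e).toMonoidHom with hC'
  have hne : ¬ C ≤ C' := by
    intro hle
    have hCH : C ≤ H := fun x hx => hkey C hCA hyC x hx (hmap C x (hle hx))
    have hCH' : C = H := Cfsg.Lib.Coprime.eq_of_le_of_card_eq hCH
      (Nat.eq_of_mul_eq_mul_right (Fact.out : p.Prime).pos (hC.symm.trans hH))
    exact hyr' (ha r' (hKW hr').1 (hCr a0 (hCH' ▸ ha0)))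
  obtain ⟨c, hcC, hcC'⟩ := SetLike.not_le_iff_exists.1 hne
  have hC'c : Nat.card A = Nat.card C' * p := by rw [hmapc]; exact hC
  set U := K ⊓ centralizer (C : Set G) with hU
  set U' := K ⊓ centralizer (C' : Set G) with hU'
  have hAU : A ≤ normalizer (U : Set G) :=
    inf_centralizer_normalized hAK fun a ha' z hz => el_commute T.el ha' (hCA hz)
  have hAU' : A ≤ normalizer (U' : Set G) :=
    inf_centralizer_normalized hAK fun a ha' z hz => el_commute T.el ha' (hmapA C hCA hz)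
  have heU : ∀ v ∈ U, e * v * e⁻¹ ∈ U' := by
    intro v hv
    refine ⟨(mem_normalizer_iff.1 (hXK (mem_sup_right (mem_zpowers e))) v).1 hv.1,
      mem_centralizer_iff.2 ?_⟩
    rintro _ ⟨z, hz, rfl⟩
    have h1 : z * v = v * z := mem_centralizer_iff.1 hv.2 z hz
    show e * z * e⁻¹ * (e * v * e⁻¹) = e * v * e⁻¹ * (e * z * e⁻¹)
    rw [show e * z * e⁻¹ * (e * v * e⁻¹) = e * (z * v) * e⁻¹ by group, h1]; group
  have hUU : ∀ v ∈ U, ∀ v' ∈ U', v * v' = v' * v := by
    intro v hv v' hv'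
    set D := U' ⊓ centralizer ({v} : Set G)
    have hD2 : IsPGroup 2 D := hQ2.to_le
      ((inf_le_left.trans inf_le_left).trans (hKW.trans inf_le_left))
    have hcD : zpowers c ≤ normalizer (D : Set G) := by
      have h0 := inf_centralizer_normalized (A := zpowers c) (C := zpowers v)
        ((zpowers_le.2 (hCA hcC) : zpowers c ≤ A).trans hAU') (fun a ha' z hz =>
          zpowers_commute (zpowers_commute (mem_centralizer_iff.1 hv.2 c hcC) a ha').symm z hz
            |>.symm)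
      have hDeq : D = U' ⊓ centralizer (zpowers v : Set G) := by
        rw [zpowers_eq_closure, centralizer_closure]
      rwa [← hDeq] at h0
    obtain ⟨d, hd, hfix⟩ := Cfsg.Lib.Coprime.exists_fixed_in_coset hcD
      (coprime_el_two h.odd (el_isPGroup (el_zpowers (el_pow T.el (hCA hcC)))) hD2)
      (Or.inl (Group.isSolvable_of_comm fun a b => mul_comm' a b)) (k := v') (fun a ha' => by
        have haA : a ∈ A := zpowers_le.2 (hCA hcC) ha'
        have hav : a * v = v * a :=
          zpowers_commute (mem_centralizer_iff.1 hv.2 c hcC) a ha'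
        have hv'a : a * v' * a⁻¹ ∈ U' := (mem_normalizer_iff.1 (hAU' haA) v').1 hv'
        refine mem_inf.2 ⟨?_, mem_centralizer_singleton_iff.2 ?_⟩
        · rw [show v'⁻¹ * a * v' * a⁻¹ = v'⁻¹ * (a * v' * a⁻¹) by group]
          exact mul_mem (inv_mem hv') hv'a
        · set k1 := a * v' * a⁻¹ with hk1
          have hconj : a * (v * v') * a⁻¹ = v * k1 ∧ a * (v' * v) * a⁻¹ = k1 * v := by
            constructor
            · rw [hk1, show a * (v * v') * a⁻¹ = (a * v) * v' * a⁻¹ by group, hav]; group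
            · rw [hk1, show a * (v' * v) * a⁻¹ = a * v' * (v * a⁻¹) by group,
                show v * a⁻¹ = a⁻¹ * v from (Commute.inv_left hav).eq.symm]
              group
          rw [show v'⁻¹ * a * v' * a⁻¹ = v'⁻¹ * k1 by rw [hk1]; group]
          rcases hKext.comm v hv.1 v' hv'.1 with h1 | h1
          · have h2 : v * k1 = k1 * v := by rw [← hconj.1, h1, hconj.2]
            exact ((Commute.inv_right h1).mul_right h2).eq.symm
          · have h2 : v * k1 = t * (k1 * v) := by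
              rw [← hconj.1, h1, show a * (t * (v' * v)) * a⁻¹ = (a * t * a⁻¹) *
                (a * (v' * v) * a⁻¹) by group, hconj.2,
                mul_inv_eq_iff_eq_mul.2 (T.commute a haA)]
            have h3 : v * v'⁻¹ = v'⁻¹ * (t * v) := by
              have h5 : v' * t = t * v' := hWt v' (hKW hv'.1)
              rw [eq_inv_mul_iff_mul_eq, ← mul_assoc, mul_inv_eq_iff_eq_mul]
              calc v' * v = (t * t) * (v' * v) := by rw [T.sq, one_mul]
                _ = t * (v * v') := by rw [h1]; group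
                _ = t * v * v' := by group
            calc v'⁻¹ * k1 * v = v'⁻¹ * ((t * t) * (k1 * v)) := by rw [T.sq]; group
              _ = v'⁻¹ * (t * (v * k1)) := by rw [h2]; group
              _ = v'⁻¹ * (t * v) * k1 := by group
              _ = v * (v'⁻¹ * k1) := by rw [← h3]; group)
    have hd' : d * v = v * d := mem_centralizer_singleton_iff.1 hd.2
    set z := v' * d with hz
    have hzU : z ∈ U' := mul_mem hv' hd.1
    have hyz : y * z = z * y := le_cen_of_hyperplane T.el (hmapA C hCA) hC'c (hCA hcC) hcC'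
      (fun b hb => mem_centralizer_iff.1 hzU.2 b hb)
      (mem_centralizer_iff.1 hfix c (mem_zpowers c)) y hy
    have hzv := hKfix z hzU.1 hyz v hv.1
    calc v * v' = (v * z) * d⁻¹ := by rw [hz]; group
      _ = z * (v * d⁻¹) := by rw [← hzv]; group
      _ = z * (d⁻¹ * v) := by rw [(Commute.inv_left hd').eq]
      _ = v' * v := by rw [hz]; group
  obtain ⟨u, hu, w, hw, hu2, hw2, huw⟩ := h.exists_pair T hAU (fun v hv => hWt v (hKW hv.1))
    ⟨fun a ha' b hb => hKext.comm a ha'.1 b hb.1, fun a ha' => hKext.sq a ha'.1⟩ hCA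
    (card_hyperplane T.card (by omega) hC).ge
    (fun z hz v hv => mem_centralizer_iff.1 hv.2 z hz)
    ⟨y, hy, r', ⟨hr', mem_centralizer_iff.2 fun z hz => hCr z hz⟩, hyr'⟩
  set u' := e * u * e⁻¹ with hu'
  set w' := e * w * e⁻¹ with hw'
  have het' : e * t * e⁻¹ = t := mul_inv_eq_iff_eq_mul.2 het
  have hu'2 : u' * u' = t := by
    rw [hu', show e * u * e⁻¹ * (e * u * e⁻¹) = e * (u * u) * e⁻¹ by group, hu2, het']
  have hw'2 : w' * w' = t := by
    rw [hw', show e * w * e⁻¹ * (e * w * e⁻¹) = e * (w * w) * e⁻¹ by group, hw2, het']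
  have hu'w' : u' * w' = t * (w' * u') := by
    calc u' * w' = e * (u * w) * e⁻¹ := by rw [hu', hw']; group
      _ = (e * t * e⁻¹) * (w' * u') := by rw [huw, hu', hw']; group
      _ = _ := by rw [het']
  have hu'U := heU u hu
  have hw'U := heU w hw
  have huu := hUU u hu u' hu'U
  have hww := hUU w hw w' hw'U
  obtain ⟨hel, hcard⟩ := el_eight T.sq T.ne hu2 hw2 hu'2 hw'2 huw hu'w' huu
    (hUU u hu w' hw'U) (hUU w hw u' hu'U) hww
  set E := zpowers t ⊔ zpowers (u * u') ⊔ zpowers (w * w') with hE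
  have hEK : E ≤ K := sup_le (sup_le (zpowers_le.2 (hu2 ▸ mul_mem hu.1 hu.1))
    (zpowers_le.2 (mul_mem hu.1 hu'U.1))) (zpowers_le.2 (mul_mem hw.1 hw'U.1))
  have hEe : ∀ z ∈ E, z * e = e * z := by
    have hfix : ∀ v v' : G, v' = e * v * e⁻¹ → v * v' = v' * v → v * v' * e = e * (v * v') := by
      intro v v' hv' hc
      refine (mul_inv_eq_iff_eq_mul.1 ?_).symm
      calc e * (v * v') * e⁻¹ = (e * v * e⁻¹) * (e * v' * e⁻¹) := by group
        _ = v' * v := by rw [← hv', hv', hee]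
        _ = _ := hc.symm
    exact le_cen_singleton.1 (sup_le (sup_le (zpowers_le.2
      (mem_centralizer_singleton_iff.2 het.symm))
      (zpowers_le.2 (mem_centralizer_singleton_iff.2 (hfix u u' hu' huu))))
      (zpowers_le.2 (mem_centralizer_singleton_iff.2 (hfix w w' hw' hww))))
  have heE : e ∉ E := fun hm => by
    have heQ : e ∈ Q := (hKW (hEK hm)).1
    have h1 : y⁻¹ * y⁻¹ = 1 := by
      refine Cfsg.Lib.Coprime.eq_one_of_coprime (coprime_el_two h.odd (el_isPGroup T.el) hQ2)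
        (mul_mem (inv_mem hy) (inv_mem hy)) ?_
      have h2 : e * y * e⁻¹ * y⁻¹ ∈ Q := by
        rw [show e * y * e⁻¹ * y⁻¹ = e * (y * e⁻¹ * y⁻¹) by group]
        exact mul_mem heQ ((mem_normalizer_iff.1 (hAQ hy) _).1 (inv_mem heQ))
      rwa [hey] at h2
    exact hy1 (inv_eq_one.1 (eq_one_of_sq_of_odd h.odd (el_pow T.el (inv_mem hy)) h1))
  have hel4 := el_sup_zpowers hel (by rw [sq, he]) hEe
  have hcard4 := card_sup_zpowers (q := 2) (by rw [sq, he]) heE
    (centralizer_le_normalizer _ (mem_centralizer_iff.2 hEe))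
  have := h.rank_bound (L := L') (l := m - 2) (k := 4) (el_mono T.el hL'A) hel4
    (fun l hl z hz => (mem_centralizer_singleton_iff.1 ((sup_le
      (le_cen_singleton.2 fun x hx => (mem_centralizer_iff.1 (hKW (hEK hx)).2 l hl).symm)
      (zpowers_le.2 (mem_centralizer_singleton_iff.2 (hL'e l hl))) :
        E ⊔ zpowers e ≤ centralizer ({l} : Set G)) hz)).symm)
    (by omega) (by norm_num) hL'c (by rw [hcard4]; norm_num; omega)
  omega

theorem Ctx.pingpong (h : Ctx G p m) {L E : Subgroup G} (hL : Cfsg.IsElementaryAbelian p L)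
    (hE : Cfsg.IsElementaryAbelian 2 E) (hLE : ∀ l ∈ L, ∀ x ∈ E, l * x = x * l) {l k : ℕ}
    (hl : 1 ≤ l) (hk : 2 ≤ k) (hLc : p ^ l ≤ Nat.card L) (hEc : 2 ^ k ≤ Nat.card E)
    (hlk : m + 1 ≤ l + k) : False := by
  classical
  have hp1 := (Fact.out : p.Prime).one_lt
  have hL1 : L ≠ ⊥ := fun e => by
    rw [e, card_bot] at hLc
    exact absurd hLc (not_le.2 (Nat.one_lt_pow (by omega) hp1))
  obtain ⟨⟨a, haL⟩, ha⟩ := L.ne_bot_iff_exists_ne_one.1 hL1
  have ha1 : a ≠ 1 := fun e => ha (Subtype.ext e)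
  obtain ⟨S, e, d⟩ := h.exists_dual hL hE hLE haL ha1
  have hkS : k ≤ S.card := (Nat.pow_le_pow_iff_right (by norm_num)).1 (hEc.trans d.card)
  obtain ⟨x0, hx0⟩ : S.Nonempty := Finset.card_pos.1 (by omega)
  obtain ⟨x1, hx1⟩ : (S.erase x0).Nonempty := Finset.card_pos.1 (by
    rw [Finset.card_erase_of_mem hx0]; omega)
  have hx1S := Finset.mem_of_mem_erase hx1
  set T0 := (S.erase x0).erase x1 with hT0
  have hT0S : T0 ⊆ S := fun z hz => Finset.mem_of_mem_erase (Finset.mem_of_mem_erase hz)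
  obtain ⟨helA, -, hfixA, hcA⟩ := d.el_join h.odd hL hLE (S.erase x0) (Finset.erase_subset _ _)
  obtain ⟨-, hcomH, hfixH, -⟩ := d.el_join h.odd hL hLE T0 hT0S
  set A := L ⊔ closure ((S.erase x0 : Finset G) : Set G) with hA
  set H := L ⊔ closure (T0 : Set G) with hH
  have hsplit : A = H ⊔ zpowers x1 := by
    rw [hA, ← Finset.insert_erase hx1, ← hT0, Finset.coe_insert, Set.insert_eq,
      Subgroup.closure_union, ← zpowers_eq_closure, hH, sup_comm (zpowers x1), sup_assoc]
  have hE2 : ∀ x ∈ S, e x * e x = 1 := fun x hx => by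
    rw [← sq]; exact el_pow hE (d.memE x hx)
  have ht1 : e x0 ≠ 1 := fun e1 => by
    have h1 := d.inv x0 hx0
    rw [e1, one_mul, inv_one, mul_one] at h1
    exact d.ne x0 hx0 (eq_one_of_sq_of_odd h.odd (d.pow x0 hx0)
      (by nth_rewrite 1 [h1]; rw [inv_mul_cancel]))
  have hAt : ∀ z ∈ A, z * e x0 = e x0 * z := fun z hz =>
    (hfixA x0 hx0 (Finset.notMem_erase x0 S) z hz).symm
  have hcard : Nat.card A = p ^ m := by
    refine le_antisymm (h.bound_commute (hE2 x0 hx0) ht1 helA hAt) ?_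
    rw [Finset.card_erase_of_mem hx0] at hcA
    refine le_trans ?_ ((Nat.mul_le_mul_right _ hLc).trans hcA)
    rw [← pow_add]
    exact Nat.pow_le_pow_right hp1.le (by omega)
  have hx1H : x1 ∉ H := fun hm => by
    have h1 := mul_inv_eq_iff_eq_mul.2
      (hfixH x1 hx1S (Finset.notMem_erase x1 _) x1 hm)
    rw [d.inv x1 hx1S] at h1
    exact d.ne x1 hx1S (eq_one_of_sq_of_odd h.odd (d.pow x1 hx1S)
      (by nth_rewrite 1 [← h1]; rw [inv_mul_cancel]))
  have hHc : Nat.card A = Nat.card H * p := by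
    rw [hsplit]
    exact card_sup_zpowers (d.pow x1 hx1S) hx1H
      (centralizer_le_normalizer _ (mem_centralizer_iff.2 (hcomH x1 hx1S)))
  exact h.core_false ⟨helA, hcard, hE2 x0 hx0, ht1, hAt⟩ (hE2 x1 hx1S)
    (el_commute hE (d.memE x1 hx1S) (d.memE x0 hx0)) (le_sup_left.trans hsplit.ge) hHc
    (hfixH x1 hx1S (Finset.notMem_erase x1 _)) (hsplit.ge (mem_sup_right (mem_zpowers x1))) hx1H
    (d.inv x1 hx1S) (mem_sup_left haL) (d.memOp x1 hx1S)

/-- A large elementary abelian `p`-group centralizes at most one involution of a commuting family. -/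
theorem Ctx.rank_one (h : Ctx G p m) {B : Subgroup G} (hB : Cfsg.IsElementaryAbelian p B)
    (hBc : p ^ (m - 1) ≤ Nat.card B) {t x : G} (ht : t * t = 1) (ht1 : t ≠ 1) (hx : x * x = 1)
    (hxt : x * t = t * x) (hBt : ∀ b ∈ B, b * t = t * b) (hBx : ∀ b ∈ B, b * x = x * b) :
    x ∈ zpowers t := by
  by_contra hn
  obtain ⟨hel, hc⟩ := el_four ht ht1 hx hxt hn
  have := h.three
  refine h.pingpong (l := m - 1) (k := 2) hB hel (fun b hb z hz =>
    (mem_centralizer_singleton_iff.1 ((sup_le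
      (zpowers_le.2 (mem_centralizer_singleton_iff.2 (hBt b hb).symm))
      (zpowers_le.2 (mem_centralizer_singleton_iff.2 (hBx b hb).symm))
        : zpowers t ⊔ zpowers x ≤ centralizer ({b} : Set G)) hz)).symm)
    (by omega) le_rfl hBc (by rw [hc]; norm_num) (by omega)

end Cfsg.Lib.KlingerMason
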